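import Cfsg.Agent.Lib.KnownSimple.SUClassBound.Dual
import Cfsg.Agent.Lib.KnownSimple.SLClassBound.Types

/-!
# Unitary elements of prescribed determinant in a centralizer
-/

set_option autoImplicit false

namespace CfsgLib.SUBound

open Polynomial Matrix Module CfsgLib.Classical CfsgLib.Classical.SUSemisimple CfsgLib.SSClasses CfsgLib.SLBound

universe u

variable {K : Type u} [Field K] [Fintype K] {q n : ℕ} (hK : Fintype.card K = q ^ 2) (σ : K →+* K)
  (hσ : ∀ a, σ a = a ^ q)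
  {G : Matrix (Fin n) (Fin n) K}

/-- The vector behind an element of the module of `G`. -/
noncomputable abbrev vec (G : Matrix (Fin n) (Fin n) K) (a : MatMod G) : Fin n → K :=
  (AEval'.of (Matrix.toLin' G)).symm a

/-- The Hermitian form on the module of `G`. -/
noncomputable abbrev form (q : ℕ) (G : Matrix (Fin n) (Fin n) K) (a b : MatMod G) : K :=
  Cfsg.hermForm n K q (vec G a) (vec G b)

theorem vec_smul (p : K[X]) (a : MatMod G) : vec G (p • a) = aeval G p *ᵥ vec G a := by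
  obtain ⟨v, rfl⟩ := (AEval'.of (Matrix.toLin' G)).surjective a
  have h : aeval (Matrix.toLin' G) p = Matrix.toLin' (aeval G p) :=
    aeval_algHom_apply (Matrix.toLinAlgEquiv' (R := K) (n := Fin n)) G p
  have e : p • AEval'.of (Matrix.toLin' G) v = AEval'.of (Matrix.toLin' G) (aeval G p *ᵥ v) := by
    refine (AEval.of_aeval_smul (Matrix.toLin' G) p v).symm.trans ?_
    rw [h]; rfl
  simp only [vec, e, LinearEquiv.symm_apply_apply]

theorem vec_add (a b : MatMod G) : vec G (a + b) = vec G a + vec G b := map_add _ _ _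

theorem vec_zero : vec G (0 : MatMod G) = 0 := map_zero _

theorem vec_C_smul (c : K) (a : MatMod G) : vec G (C c • a) = c • vec G a := by
  rw [vec_smul, aeval_C, Algebra.algebraMap_eq_smul_one, smul_mulVec, one_mulVec]

theorem exists_starQ_poly (hG : GUConj.starQ q G * G = 1) : ∃ r : K[X], aeval G r = GUConj.starQ q G := by
  obtain ⟨g, rfl⟩ : IsUnit G := IsUnit.of_mul_eq_one_right _ hG
  have h0 := CfsgLib.SSClasses.coeff_zero_ne_zero g
  have h := Matrix.aeval_self_charpoly (g : Matrix (Fin n) (Fin n) K)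
  rw [← X_mul_divX_add (g : Matrix (Fin n) (Fin n) K).charpoly, map_add, map_mul, aeval_X, aeval_C,
    add_eq_zero_iff_eq_neg] at h
  refine ⟨C (-((g : Matrix (Fin n) (Fin n) K).charpoly.coeff 0)⁻¹) * (g : Matrix (Fin n) (Fin n) K).charpoly.divX, ?_⟩
  refine (left_inv_eq_right_inv hG ?_).symm
  rw [map_mul, aeval_C, ← mul_assoc, ← Algebra.commutes, mul_assoc, h, ← map_neg, ← map_mul, neg_mul_neg,
    inv_mul_cancel₀ h0, map_one]

include hK hσ

theorem exists_adjoint (hG : GUConj.starQ q G * G = 1) (p : K[X]) :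
    ∃ r : K[X], ∀ a b : MatMod G, form q G (p • a) b = form q G a (r • b) := by
  obtain ⟨r0, hr0⟩ := exists_starQ_poly hG
  refine ⟨(p.map σ).comp r0, fun a b => ?_⟩
  rw [form, form, vec_smul, vec_smul, hermForm_adjoint hK σ hσ, starQ_aeval hK σ hσ, aeval_comp, hr0]

theorem exists_adjoint_dual (hG : GUConj.starQ q G * G = 1) {p : K[X]} (hp : p.coeff 0 ≠ 0) :
    ∃ u : K[X], ∀ a b : MatMod G, form q G (p • a) b = form q G a ((u * dualPoly σ p) • b) := by
  obtain ⟨r0, hr0⟩ := exists_starQ_poly hG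
  refine ⟨C (σ (p.coeff 0)) * r0 ^ p.natDegree, fun a b => ?_⟩
  rw [form, form, vec_smul, vec_smul, hermForm_adjoint hK σ hσ, star_aeval_eq hK σ hσ hG hp, map_mul, map_mul,
    map_pow, aeval_C, hr0, mul_assoc, ← Algebra.smul_def]

theorem dual_pow (P : K[X]) : ∀ j : ℕ, dualPoly σ (P ^ j) = dualPoly σ P ^ j
  | 0 => by simp [dualPoly, show (1 : K[X]).reverse = 1 by rw [← C_1, reverse_C]]
  | j + 1 => by rw [pow_succ, pow_succ, dualPoly_mul, dual_pow P j]

/-- Duality between the kernel of the dual power and the cokernel. -/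
theorem exists_dual_vector (hG : GUConj.starQ q G * G = 1) {P : K[X]} (h0 : P.coeff 0 ≠ 0) (m : ℕ)
    {x : MatMod G} (hx : ∀ y : MatMod G, x ≠ P ^ m • y) :
    ∃ w : MatMod G, dualPoly σ P ^ m • w = 0 ∧ form q G x w ≠ 0 := by
  classical
  have hnot : vec G x ∉ LinearMap.range (Matrix.toLin' (aeval G (P ^ m))) := by
    rintro ⟨y, hy⟩
    refine hx (AEval'.of (Matrix.toLin' G) y) ((AEval'.of (Matrix.toLin' G)).symm.injective ?_)
    show vec G x = vec G _
    rw [vec_smul, ← hy]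
    simp only [vec, LinearEquiv.symm_apply_apply, Matrix.toLin'_apply]
  obtain ⟨φ, hφ, hφ0⟩ := Submodule.exists_dual_map_eq_bot_of_notMem hnot inferInstance
  obtain ⟨u, hu⟩ : ∃ u : Fin n → K, ∀ y, φ y = y ⬝ᵥ u := by
    refine ⟨fun i => φ (Pi.single i 1), fun y => ?_⟩
    conv_lhs => rw [pi_eq_sum_univ' y]
    simp [dotProduct, map_sum]
  have hf : ∀ y, Cfsg.hermForm n K q y (σ ∘ u) = φ y := fun y => by
    rw [hermForm_eq_dot σ hσ, hu]
    congr 1
    exact funext fun i => sigma_sigma hK σ hσ (u i)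
  have hker : GUConj.starQ q (aeval G (P ^ m)) *ᵥ (σ ∘ u) = 0 := by
    refine eq_zero_of_hermForm hK σ hσ fun y => ?_
    rw [← hermForm_adjoint hK σ hσ, hf]
    have h1 : φ (aeval G (P ^ m) *ᵥ y) ∈ (LinearMap.range (Matrix.toLin' (aeval G (P ^ m)))).map φ :=
      Submodule.mem_map_of_mem ⟨y, Matrix.toLin'_apply _ _⟩
    rw [hφ0, Submodule.mem_bot] at h1
    exact h1
  refine ⟨AEval'.of (Matrix.toLin' G) (σ ∘ u), (AEval'.of (Matrix.toLin' G)).symm.injective ?_, ?_⟩
  · show vec G _ = vec G 0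
    rw [vec_smul, vec_zero, ← dual_pow hK σ hσ P m]
    simp only [vec, LinearEquiv.symm_apply_apply]
    have h00 : (P ^ m).coeff 0 ≠ 0 := by
      rw [coeff_zero_eq_eval_zero, eval_pow, ← coeff_zero_eq_eval_zero]; exact pow_ne_zero _ h0
    rw [star_aeval_eq hK σ hσ hG h00, smul_mulVec, ← mulVec_mulVec, smul_eq_zero] at hker
    have h2 := congrArg (fun t => G ^ (P ^ m).natDegree *ᵥ t) (hker.resolve_left ((map_ne_zero σ).2 h00))
    simp only [mulVec_mulVec, ← mul_assoc, mulVec_zero] at h2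
    rw [← (show Commute G (GUConj.starQ q G) from (mul_eq_one_comm.1 hG).trans hG.symm).mul_pow,
      mul_eq_one_comm.1 hG, one_pow, one_mul] at h2
    exact h2
  · rw [form]
    simp only [vec, LinearEquiv.symm_apply_apply]
    rw [hf]
    exact hφ

theorem exists_gu_of_embedding (hG : GUConj.starQ q G * G = 1) {N : Type u} [AddCommGroup N] [Module K N]
    [Module K[X] N] [IsScalarTower K K[X] N] [Module.Finite K N] (η : N →ₗ[K[X]] MatMod G)
    (hnd : ∀ a ≠ 0, ∃ b, form q G (η a) (η b) ≠ 0) (k : K[X]) {c : K} (hc : c ≠ 0)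
    (hk : LinearMap.det ((LinearMap.lsmul K[X] N k).restrictScalars K) = c) :
    ∃ z : Matrix (Fin n) (Fin n) K, GUConj.starQ q z * z = 1 ∧ z * G = G * z ∧ z.det = c / c ^ q := by
  classical
  obtain ⟨d, E⟩ : ∃ d, Nonempty ((Fin d → K) ≃ₗ[K] N) := ⟨_, ⟨(Module.finBasis K N).equivFun.symm⟩⟩
  obtain ⟨E⟩ := E
  let ι : (Fin d → K) →ₗ[K] (Fin n → K) :=
    ((AEval'.of (Matrix.toLin' G)).symm.toLinearMap ∘ₗ η.restrictScalars K) ∘ₗ E.toLinearMap
  obtain ⟨B, hB⟩ : ∃ B : Matrix (Fin n) (Fin d) K, ∀ x, B *ᵥ x = vec G (η (E x)) :=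
    ⟨LinearMap.toMatrix' ι, fun x => by rw [LinearMap.toMatrix'_mulVec]; rfl⟩
  let mX : Module.End K N := Algebra.lsmul K K N (X : K[X])
  obtain ⟨C, hC⟩ : ∃ C : Matrix (Fin d) (Fin d) K, Matrix.toLin' C = E.symm.conj mX :=
    ⟨LinearMap.toMatrix' (E.symm.conj mX), Matrix.toLin'_toMatrix' _⟩
  have hCX : ∀ x, E (C *ᵥ x) = (X : K[X]) • E x := fun x => by
    rw [← Matrix.toLin'_apply, hC, LinearEquiv.conj_apply_apply, LinearEquiv.symm_symm, LinearEquiv.apply_symm_apply]
    rfl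
  have hGB : G * B = B * C := Matrix.ext_of_mulVec_single fun i => by
    rw [← mulVec_mulVec, ← mulVec_mulVec, hB, hB, hCX, map_smul, vec_smul, aeval_X]
  -- the determinant of `k`
  have hCk : (aeval C k).det = c := by
    have h1 : Matrix.toLin' (aeval C k) = E.symm.conj ((LinearMap.lsmul K[X] N k).restrictScalars K) := by
      have e1 : aeval (Matrix.toLin' C) k = Matrix.toLin' (aeval C k) :=
        aeval_algHom_apply (Matrix.toLinAlgEquiv' (R := K) (n := Fin d)) C k
      have e2 : aeval mX k = (LinearMap.lsmul K[X] N k).restrictScalars K :=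
        (aeval_algHom_apply (Algebra.lsmul K K N) X k).trans (by rw [aeval_X_left_apply]; rfl)
      rw [← e1, hC, ← e2]
      exact aeval_algHom_apply (E.symm.conjAlgEquiv K).toAlgHom mX k
    rw [← LinearMap.det_toLin', h1, det_equiv_conj (M := N) (N := Fin d → K) E.symm, hk]
  -- the Gram matrix
  obtain ⟨S, hS⟩ : ∃ S : Matrix (Fin d) (Fin n) K, S = (B.map σ)ᵀ := ⟨_, rfl⟩
  have hσσ := sigma_sigma hK σ hσ
  have hSS : ((S * B).map σ)ᵀ = S * B := by
    rw [hS, Matrix.map_mul, transpose_mul]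
    congr 1
    ext i j; simp [hσσ]
  have hunit : IsUnit (S * B) := by
    refine Matrix.mulVec_injective_iff_isUnit.1 fun x y hxy => ?_
    by_contra hne
    have h0 : (S * B) *ᵥ (x - y) = 0 := by rw [mulVec_sub, hxy, sub_self]
    have hE : E (x - y) ≠ 0 := fun h => hne (sub_eq_zero.1 (E.map_eq_zero_iff.1 h))
    obtain ⟨b, hb⟩ := hnd _ hE
    obtain ⟨y', rfl⟩ := E.surjective b
    apply hb
    rw [form, ← hB, ← hB, hermForm_eq_dot σ hσ, map_mulVec σ, dotProduct_comm, ← vecMul_transpose,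
      ← dotProduct_mulVec, ← hS, mulVec_mulVec, h0, dotProduct_zero]
  obtain ⟨Z, hZu, hZ, -⟩ := GUConj.exists_norm_sqrt_starQ hK hunit (by rw [starQ_eq σ hσ]; exact hSS)
  obtain ⟨Zu, rfl⟩ := hZu
  obtain ⟨Zi, hZi⟩ : ∃ Zi, Zi = ((Zu⁻¹ : (Matrix (Fin d) (Fin d) K)ˣ) : Matrix (Fin d) (Fin d) K) := ⟨_, rfl⟩
  have hZ1 : Zi * (Zu : Matrix (Fin d) (Fin d) K) = 1 := hZi ▸ Zu.inv_mul
  have hZ2 : (Zu : Matrix (Fin d) (Fin d) K) * Zi = 1 := hZi ▸ Zu.mul_inv
  obtain ⟨B', hB'⟩ : ∃ B', B' = B * Zi := ⟨_, rfl⟩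
  obtain ⟨S', hS'⟩ : ∃ S' : Matrix (Fin d) (Fin n) K, S' = GUConj.starQ q Zi * S := ⟨_, rfl⟩
  obtain ⟨C', hC'⟩ : ∃ C', C' = (Zu : Matrix (Fin d) (Fin d) K) * C * Zi := ⟨_, rfl⟩
  have hS'eq : S' = (B'.map σ)ᵀ := by
    rw [hS', hB', hS, Matrix.map_mul, transpose_mul, starQ_eq σ hσ]
  have hnorm : S' * B' = 1 := by
    rw [hS', hB', Matrix.mul_assoc, ← Matrix.mul_assoc S, ← hZ,
      Matrix.mul_assoc (GUConj.starQ q (Zu : Matrix (Fin d) (Fin d) K)), hZ2, mul_one, ← GUConj.starQ_mul hK, hZ2, GUConj.starQ_one hK]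
  have hGB' : G * B' = B' * C' := by
    rw [hB', hC', ← Matrix.mul_assoc, hGB, Matrix.mul_assoc B Zi, ← Matrix.mul_assoc Zi, ← Matrix.mul_assoc Zi,
      hZ1, one_mul, Matrix.mul_assoc]
  have hSG : GUConj.starQ q C' * S' = S' * GUConj.starQ q G := by
    rw [starQ_eq σ hσ, starQ_eq σ hσ, hS'eq, ← transpose_mul, ← Matrix.map_mul, ← hGB', Matrix.map_mul, transpose_mul]
  have hC'u : GUConj.starQ q C' * C' = 1 := by
    calc GUConj.starQ q C' * C' = GUConj.starQ q C' * (S' * B') * C' := by rw [hnorm, mul_one]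
      _ = S' * (GUConj.starQ q G * G) * B' := by
        rw [← Matrix.mul_assoc, hSG, Matrix.mul_assoc _ B', ← hGB']; simp only [Matrix.mul_assoc]
      _ = 1 := by rw [hG, Matrix.mul_one, hnorm]
  have hC'k : (aeval C' k).det = c := by
    have h1 : aeval C' k = (Zu : Matrix (Fin d) (Fin d) K) * aeval C k * Zi := by
      rw [hC']
      clear hCk hk
      induction k using Polynomial.induction_on' with
      | add P Q hP hQ => rw [map_add, map_add, hP, hQ, mul_add, add_mul]
      | monomial i a =>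
        rw [aeval_monomial, aeval_monomial, hZi, Units.conj_pow, ← mul_assoc, ← mul_assoc, ← mul_assoc,
          Algebra.commutes a (Zu : Matrix (Fin d) (Fin d) K)]
    rw [h1, hZi, Matrix.det_units_conj, hCk]
  obtain ⟨w, hw, hwC, hwd⟩ := exists_twist hK hC'u k ((Matrix.isUnit_iff_isUnit_det _).2 (by rw [hC'k]; exact hc.isUnit))
  rw [hC'k] at hwd
  have hSG2 : S' * G = C' * S' := by
    have h1 := congrArg (fun t => C' * t * G) hSG
    simp only [← Matrix.mul_assoc] at h1
    rw [mul_eq_one_comm.1 hC'u, Matrix.one_mul, Matrix.mul_assoc (C' * S'), hG, Matrix.mul_one] at h1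
    exact h1
  have hw' : w * C' = C' * w := hwC
  refine ⟨1 + B' * (w - 1) * S', ?_, ?_, ?_⟩
  · have hstar : GUConj.starQ q (1 + B' * (w - 1) * S') = 1 + B' * (GUConj.starQ q w - 1) * S' := by
      rw [starQ_eq σ hσ, starQ_eq σ hσ, Matrix.map_add _ (map_add σ), transpose_add, Matrix.map_mul, Matrix.map_mul,
        transpose_mul, transpose_mul, Matrix.map_sub _ (map_sub σ), transpose_sub,
        Matrix.map_one _ (map_zero σ) (map_one σ), transpose_one, Matrix.map_one _ (map_zero σ) (map_one σ),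
        transpose_one, ← hS'eq]
      have hBS : (S'.map σ)ᵀ = B' := by
        rw [hS'eq]; ext i j; simp [hσσ]
      rw [hBS, Matrix.mul_assoc]
    rw [hstar, add_mul, mul_add, mul_add, one_mul, one_mul, mul_one, add_assoc, ← add_assoc (B' * (w - 1) * S')]
    refine add_eq_left.2 ?_
    have e : B' * (GUConj.starQ q w - 1) * S' * (B' * (w - 1) * S') =
        B' * ((GUConj.starQ q w - 1) * (w - 1)) * S' := by
      rw [Matrix.mul_assoc _ S', ← Matrix.mul_assoc S', ← Matrix.mul_assoc S', hnorm, Matrix.one_mul]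
      simp only [Matrix.mul_assoc]
    rw [e, ← Matrix.add_mul, ← Matrix.add_mul, ← Matrix.mul_add, ← Matrix.mul_add, sub_mul, mul_sub, mul_sub, hw,
      mul_one, one_mul, one_mul]
    rw [show w - 1 + (GUConj.starQ q w - 1) + (1 - GUConj.starQ q w - (w - 1)) = 0 by abel, Matrix.mul_zero,
      Matrix.zero_mul]
  · rw [add_mul, mul_add, one_mul, mul_one, Matrix.mul_assoc _ S', hSG2, ← Matrix.mul_assoc G, ← Matrix.mul_assoc G,
      hGB', ← Matrix.mul_assoc]
    simp only [Matrix.mul_assoc B']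
    congr 2
    rw [mul_sub, sub_mul, hw', mul_one, one_mul]
  · rw [Matrix.mul_assoc B', Matrix.det_one_add_mul_comm, Matrix.mul_assoc (w - 1), hnorm, Matrix.mul_one,
      add_sub_cancel, hwd]

omit hK hσ in
omit [Fintype K] in
/-- Every non-zero element of a primary cyclic module has a multiple in the socle. -/
theorem exists_mul_socle {P : K[X]} (hirr : Irreducible P) :
    ∀ (m : ℕ) (f : K[X]), 0 < m → ¬ P ^ m ∣ f → ∃ r, P ^ m ∣ r * f - P ^ (m - 1) := by
  intro m
  induction m with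
  | zero => intro f h; omega
  | succ m ih =>
    intro f _ hf
    by_cases hd : P ∣ f
    · obtain ⟨f', rfl⟩ := hd
      rcases Nat.eq_zero_or_pos m with rfl | hm
      · exact absurd (Dvd.intro f' (by rw [zero_add, pow_one])) hf
      obtain ⟨r, s, hr⟩ := ih f' hm fun h => hf (by rw [pow_succ']; exact mul_dvd_mul_left P h)
      refine ⟨r, s, ?_⟩
      rw [Nat.add_sub_cancel, pow_succ', mul_assoc, ← hr, show P ^ m = P * P ^ (m - 1) by
        rw [← pow_succ', Nat.sub_add_cancel hm]]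
      ring
    · obtain ⟨a, b, hab⟩ := IsCoprime.pow_left (m := m + 1) ((hirr.coprime_iff_not_dvd).2 hd)
      refine ⟨b * P ^ m, -(a * P ^ m), ?_⟩
      rw [Nat.add_sub_cancel]
      linear_combination P ^ m * hab

/-- A unitary element of the centralizer with determinant coming from a block. -/
theorem exists_gu_of_block (hG : GUConj.starQ q G * G = 1) {P : K[X]} (hP : P.Monic) (hirr : Irreducible P)
    (h0 : P.coeff 0 ≠ 0) {m : ℕ} (hm : 0 < m) {v : MatMod G} (hv : P ^ m • v = 0)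
    (hv' : ∀ y : MatMod G, P ^ (m - 1) • v ≠ P ^ m • y) {c : K} (hc : c ≠ 0) :
    ∃ z : Matrix (Fin n) (Fin n) K, GUConj.starQ q z * z = 1 ∧ z * G = G * z ∧ z.det = c ^ m / (c ^ m) ^ q := by
  classical
  obtain ⟨w, hw, hvw⟩ := exists_dual_vector hK σ hσ hG h0 m hv'
  haveI : Fact (Irreducible P) := ⟨hirr⟩
  haveI : Module.Finite K (AdjoinRoot P) := (AdjoinRoot.powerBasis hP.ne_zero).finite
  haveI : Finite (AdjoinRoot P) := Module.finite_of_finite K
  haveI : Module.Finite K (K[X] ⧸ Ideal.span {P ^ m}) := finite_quot (pow_ne_zero _ hP.ne_zero)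
  obtain ⟨b, hb⟩ := FiniteField.norm_surjective K (AdjoinRoot P) c
  obtain ⟨k, rfl⟩ := AdjoinRoot.mk_surjective b
  let cyc : ∀ (Q : K[X]) (u : MatMod G), Q ^ m • u = 0 → (K[X] ⧸ Ideal.span {Q ^ m}) →ₗ[K[X]] MatMod G :=
    fun Q u hu => Submodule.liftQ _ (LinearMap.toSpanSingleton K[X] (MatMod G) u) fun p hp => by
      obtain ⟨s, rfl⟩ := Ideal.mem_span_singleton.1 hp
      rw [LinearMap.mem_ker, LinearMap.toSpanSingleton_apply, mul_comm, mul_smul, hu, smul_zero]
  have hcyc : ∀ Q u hu p, cyc Q u hu (Ideal.Quotient.mk _ p) = p • u := fun _ _ _ _ => rfl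
  by_cases hsd : dualPoly σ P = P
  · rw [hsd] at hw
    -- polarization
    obtain ⟨x, hx, a, hxa⟩ : ∃ x : MatMod G, P ^ m • x = 0 ∧ ∃ a : K[X], form q G (a • x) (P ^ (m - 1) • x) ≠ 0 := by
      by_contra hcon
      push Not at hcon
      obtain ⟨t, ht⟩ := GUConj.exists_pow_ne hK
      have key : ∀ s : K, σ s * form q G (v) (P ^ (m - 1) • w) + s * form q G w (P ^ (m - 1) • v) = 0 := fun s => by
        have e1 := hcon (v + C s • w) (by rw [smul_add, smul_comm, hv, hw, smul_zero, add_zero]) 1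
        have e2 := hcon v hv 1
        have e3 := hcon w hw 1
        rw [one_smul, smul_add, smul_comm (P ^ (m - 1)) (C s), form, vec_add, vec_add, vec_C_smul, vec_C_smul,
          hermForm_add_left σ hσ, hermForm_add_right σ hσ, hermForm_add_right σ hσ, hermForm_smul_left σ hσ,
          hermForm_smul_left σ hσ, hermForm_smul_right σ hσ, hermForm_smul_right σ hσ] at e1
        rw [one_smul, form] at e2 e3
        rw [e2, e3] at e1
        rw [form, form]
        linear_combination e1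
      have k1 := key 1
      have k2 := key t
      rw [map_one, one_mul, one_mul] at k1
      rw [hσ] at k2
      have h2 : (t ^ q - t) * form q G w (P ^ (m - 1) • v) = 0 := by linear_combination (t ^ q) * k1 - k2
      exact hermForm_symm_ne hK σ hσ hvw ((mul_eq_zero.1 h2).resolve_left (sub_ne_zero.2 ht))
    refine exists_gu_of_embedding hK σ hσ hG (cyc P x hx) (fun y hy => ?_) k (pow_ne_zero _ hc) ?_
    · obtain ⟨f, rfl⟩ := Ideal.Quotient.mk_surjective y
      obtain ⟨r, s, hr⟩ := exists_mul_socle hirr m f hm fun h =>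
        hy (Ideal.Quotient.eq_zero_iff_mem.2 (Ideal.mem_span_singleton.2 h))
      obtain ⟨r', hr'⟩ := exists_adjoint hK σ hσ hG r
      refine ⟨Ideal.Quotient.mk _ (r' * a), ?_⟩
      simp only [hcyc]
      rw [mul_smul, ← hr', smul_smul, show r * f = P ^ (m - 1) + s * P ^ m by linear_combination hr,
        add_smul, mul_smul, hx, smul_zero, add_zero]
      exact hermForm_symm_ne hK σ hσ hxa
    · show LinearMap.det (mulEnd (P ^ m) k) = c ^ m
      rw [det_mulEnd_pow hP.ne_zero, det_mulEnd_eq_norm hP.ne_zero, hb]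
  · obtain ⟨P', hP'def⟩ : ∃ P', P' = dualPoly σ P := ⟨_, rfl⟩
    rw [← hP'def] at hw hsd
    have hP' : P'.Monic := hP'def ▸ monic_dualPoly σ h0
    have hirr' : Irreducible P' := hP'def ▸ dualPoly_irreducible hK σ hσ hP hirr h0
    have hcop : IsCoprime P P' := (hirr.coprime_iff_not_dvd).2 fun h =>
      hsd (eq_of_monic_of_associated hP hP' (hirr.associated_of_dvd hirr' h)).symm
    haveI : Module.Finite K (K[X] ⧸ Ideal.span {P' ^ m}) := finite_quot (pow_ne_zero _ hP'.ne_zero)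
    haveI : Module.Finite K (AdjoinRoot P') := (AdjoinRoot.powerBasis hP'.ne_zero).finite
    obtain ⟨α, β, hab⟩ := hcop
    -- `k'` is `k` modulo `P` and one modulo `P'`
    obtain ⟨k', hk'⟩ : ∃ k', k' = α * P + k * (β * P') := ⟨_, rfl⟩
    let N := (K[X] ⧸ Ideal.span {P ^ m}) × (K[X] ⧸ Ideal.span {P' ^ m})
    let η : N →ₗ[K[X]] MatMod G := (cyc P v hv).coprod (cyc P' w hw)
    have hη : ∀ p p', η (Ideal.Quotient.mk _ p, Ideal.Quotient.mk _ p') = p • v + p' • w := fun p p' => rfl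
    obtain ⟨u, hu⟩ := exists_adjoint_dual hK σ hσ hG (p := P ^ (m - 1)) (by
      rw [coeff_zero_eq_eval_zero, eval_pow, ← coeff_zero_eq_eval_zero]; exact pow_ne_zero _ h0)
    rw [dual_pow hK σ hσ, ← hP'def] at hu
    obtain ⟨u', hu'⟩ := exists_adjoint hK σ hσ hG u
    have hwv : form q G (P' ^ (m - 1) • w) (u' • v) ≠ 0 := by
      rw [hu v w, mul_smul] at hvw
      have h1 := hermForm_symm_ne hK σ hσ hvw
      rw [show Cfsg.hermForm n K q (vec G (u • P' ^ (m - 1) • w)) (vec G v) =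
        form q G (u • P' ^ (m - 1) • w) v from rfl, hu'] at h1
      exact h1
    have hpm : ∀ {A B : K[X]}, IsCoprime A B → IsCoprime (A ^ m) (B ^ m) := fun h => h.pow
    refine exists_gu_of_embedding hK σ hσ hG η (fun y hy => ?_) k' (pow_ne_zero _ hc) ?_
    · obtain ⟨y1, y2⟩ := y
      obtain ⟨f, rfl⟩ := Ideal.Quotient.mk_surjective y1
      obtain ⟨f', rfl⟩ := Ideal.Quotient.mk_surjective y2
      obtain ⟨γ, δ, hγ⟩ := hpm (⟨α, β, hab⟩ : IsCoprime P P')
      by_cases hf : P ^ m ∣ f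
      · have hf' : ¬ P' ^ m ∣ f' := fun h => hy (Prod.ext (Ideal.Quotient.eq_zero_iff_mem.2
          (Ideal.mem_span_singleton.2 hf)) (Ideal.Quotient.eq_zero_iff_mem.2 (Ideal.mem_span_singleton.2 h)))
        obtain ⟨r, s, hr⟩ := exists_mul_socle hirr' m f' hm hf'
        obtain ⟨r', hr'⟩ := exists_adjoint hK σ hσ hG r
        obtain ⟨t, rfl⟩ := hf
        refine ⟨(Ideal.Quotient.mk _ (r' * u'), Ideal.Quotient.mk _ 0), ?_⟩
        rw [hη, hη, zero_smul, add_zero, mul_smul r', ← hr', smul_add, smul_smul, smul_smul,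
          show r * (P ^ m * t) = (r * t) * P ^ m by ring,
          show r * f' = P' ^ (m - 1) + s * P' ^ m by linear_combination hr, mul_smul, hv, smul_zero, zero_add,
          add_smul, mul_smul, hw, smul_zero, add_zero]
        exact hwv
      · obtain ⟨r, s, hr⟩ := exists_mul_socle hirr m f hm hf
        obtain ⟨r', hr'⟩ := exists_adjoint hK σ hσ hG (r * (δ * P' ^ m))
        refine ⟨(Ideal.Quotient.mk _ 0, Ideal.Quotient.mk _ r'), ?_⟩
        rw [hη, hη, zero_smul, zero_add, ← hr', smul_add, smul_smul, smul_smul,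
          show r * (δ * P' ^ m) * f = P ^ (m - 1) + (s - γ * r * f) * P ^ m by
            linear_combination hr + (r * f) * hγ,
          show r * (δ * P' ^ m) * f' = (r * δ * f') * P' ^ m by ring, mul_smul _ (P' ^ m), hw, smul_zero, add_zero,
          add_smul, mul_smul, hv, smul_zero, add_zero]
        exact hvw
    · have e : (LinearMap.lsmul K[X] N k').restrictScalars K =
          (mulEnd (P ^ m) k').prodMap (mulEnd (P' ^ m) k') := LinearMap.ext fun _ => rfl
      have e1 : AdjoinRoot.mk P k' = AdjoinRoot.mk P k := AdjoinRoot.mk_eq_mk.2 ⟨α - k * α, by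
        rw [hk']; linear_combination k * hab⟩
      have e2 : AdjoinRoot.mk P' k' = AdjoinRoot.mk P' 1 := AdjoinRoot.mk_eq_mk.2 ⟨k * β - β, by
        rw [hk']; linear_combination hab⟩
      rw [e, LinearMap.det_prodMap, det_mulEnd_pow hP.ne_zero, det_mulEnd_eq_norm hP.ne_zero, e1, hb,
        det_mulEnd_pow hP'.ne_zero, det_mulEnd_eq_norm hP'.ne_zero, e2, map_one, map_one, one_pow, mul_one]

/-- The determinants of unitary elements commuting with a unitary matrix. -/
theorem exists_gu_of_ptype (g : GL (Fin n) K) (hg : g ∈ Cfsg.GU n K q) {x : K[X] × ℕ} (hx : x ∈ ptype g)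
    {c : K} (hc : c ≠ 0) :
    ∃ z ∈ Cfsg.GU n K q, z * g = g * z ∧ (z : Matrix (Fin n) (Fin n) K).det = c ^ x.2 / (c ^ x.2) ^ q := by
  classical
  have hG := (GUConj.mem_gu_iff_starQ hK _).1 hg
  obtain ⟨ι, hι, pe, hpe, hgood, ⟨Φ⟩⟩ := ptype_spec g
  obtain ⟨h1, h2, h3, h4⟩ := hgood.1 x hx
  rw [← hpe] at hx
  obtain ⟨i, -, rfl⟩ := Multiset.mem_map.1 hx
  let e : GLClassBound.PMdl pe := Pi.single i (Ideal.Quotient.mk _ 1)
  have hv : (pe i).1 ^ (pe i).2 • Φ.symm e = 0 := by
    rw [← map_smul, ← Φ.symm.map_zero]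
    refine congrArg Φ.symm (_root_.funext fun j => ?_)
    rcases eq_or_ne j i with rfl | hj
    · show (pe j).1 ^ (pe j).2 • e j = 0
      simp only [e, Pi.single_eq_same]
      show Ideal.Quotient.mk _ ((pe j).1 ^ (pe j).2 * 1) = 0
      rw [mul_one, Ideal.Quotient.eq_zero_iff_mem]
      exact Ideal.mem_span_singleton_self _
    · show (pe i).1 ^ (pe i).2 • e j = 0
      simp only [e, Pi.single_eq_of_ne hj, smul_zero]
  have hv' : ∀ y, (pe i).1 ^ ((pe i).2 - 1) • Φ.symm e ≠ (pe i).1 ^ (pe i).2 • y := fun y hy => by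
    have h := congrArg (fun t => Φ t i) hy
    simp only [map_smul, LinearEquiv.apply_symm_apply, Pi.smul_apply] at h
    simp only [e, Pi.single_eq_same] at h
    obtain ⟨t, ht⟩ := Ideal.Quotient.mk_surjective (Φ y i)
    rw [← ht] at h
    replace h : Ideal.Quotient.mk (Ideal.span {(pe i).1 ^ (pe i).2}) ((pe i).1 ^ ((pe i).2 - 1) * 1) =
      Ideal.Quotient.mk _ ((pe i).1 ^ (pe i).2 * t) := h
    rw [Ideal.Quotient.eq, Ideal.mem_span_singleton, mul_one] at h
    have h' : (pe i).1 ^ (pe i).2 ∣ (pe i).1 ^ ((pe i).2 - 1) := (dvd_sub_left (dvd_mul_right _ _)).1 h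
    rw [pow_dvd_pow_iff h1.ne_zero h2.not_isUnit] at h'
    omega
  obtain ⟨z, hz, hzc, hzd⟩ := exists_gu_of_block hK σ hσ hG h1 h2 h3 h4 hv hv' hc
  obtain ⟨Z, rfl⟩ : IsUnit z := IsUnit.of_mul_eq_one_right _ hz
  exact ⟨Z, (GUConj.mem_gu_iff_starQ hK _).2 hz, Units.ext hzc, hzd⟩

end CfsgLib.SUBound
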