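import Cfsg.Agent.Lib.KnownSimple.SUClassBound.Tuples
import Cfsg.Agent.Lib.KnownSimple.SUClassBound.Centralizer
import Cfsg.Agent.Lib.KnownSimple.SLClassBound.Classes
import Cfsg.Agent.Lib.Classical.GUClassCount

/-!
# The number of classes of special unitary groups
-/

set_option autoImplicit false

namespace CfsgLib.SUBound

open Polynomial CfsgLib.Classical CfsgLib.Classical.SUSemisimple CfsgLib.GLClassBound CfsgLib.SLBound

universe u

variable {K : Type u} [Field K] [Fintype K] {q n : ℕ} (hK : Fintype.card K = q ^ 2) (σ : K →+* K)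
  (hσ : ∀ a, σ a = a ^ q)

/-- Tuples of self-dual polynomials with determinant one. -/
def SDTup (σ : K →+* K) (n : ℕ) : Type u := {T : DTup K 1 n // ∀ j, dualPoly σ (T.1.1 j) = T.1.1 j}

/-- The elements of norm one. -/
abbrev normOne (K : Type u) [Field K] (q : ℕ) : Subgroup Kˣ := (powMonoidHom (q + 1) : Kˣ →* Kˣ).ker

/-- The element of the special unitary group as an invertible matrix. -/
abbrev toGLU {n : ℕ} (g : ↥(Cfsg.SU n K q)) : GL (Fin n) K :=
  Matrix.SpecialLinearGroup.toGL (g : Matrix.SpecialLinearGroup (Fin n) K)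

include hK

theorem units_card : Nat.card Kˣ = (q + 1) * (q - 1) := by
  rw [Nat.card_units, Nat.card_eq_fintype_card, hK, ← Nat.sq_sub_sq, one_pow]

theorem card_normOne : Nat.card (normOne K q) = q + 1 := by
  rw [normOne, IsCyclic.card_powMonoidHom_ker, units_card hK, Nat.gcd_eq_right (Dvd.intro _ rfl)]

theorem exists_div_pow (w : normOne K q) : ∃ c : K, c ≠ 0 ∧ c / c ^ q = ((w : Kˣ) : K) := by
  have hq := two_le_q hK
  have hle : (powMonoidHom (q - 1) : Kˣ →* Kˣ).range = normOne K q := by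
    apply Subgroup.eq_of_le_of_card_ge
    · rintro _ ⟨y, rfl⟩
      rw [MonoidHom.mem_ker, powMonoidHom_apply, powMonoidHom_apply, ← pow_mul, mul_comm, ← units_card hK]
      exact pow_card_eq_one'
    · rw [card_normOne hK, IsCyclic.card_powMonoidHom_range, units_card hK, Nat.gcd_eq_right (Dvd.intro_left _ rfl),
        Nat.mul_div_cancel _ (by omega)]
  obtain ⟨c, hc⟩ : (w⁻¹ : normOne K q).1 ∈ (powMonoidHom (q - 1) : Kˣ →* Kˣ).range := by rw [hle]; exact (w⁻¹).2
  refine ⟨(c : K), c.ne_zero, ?_⟩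
  rw [Subgroup.coe_inv, powMonoidHom_apply] at hc
  rw [← inv_inv (w : Kˣ), ← hc, Units.val_inv_eq_inv_val, Units.val_pow_eq_pow_val]
  rw [show (c : K) ^ q = (c : K) ^ (q - 1) * c by rw [← pow_succ, Nat.sub_add_cancel (by omega)]]
  field_simp

include hσ

theorem det_mem_normOne (x : GL (Fin n) K) (hx : x ∈ Cfsg.GU n K q) :
    Matrix.GeneralLinearGroup.det x ∈ normOne K q := by
  have h := congrArg Matrix.det ((GUConj.mem_gu_iff_starQ hK _).1 hx)
  rw [Matrix.det_mul, Matrix.det_one, starQ_eq σ hσ, Matrix.det_transpose, ← RingHom.mapMatrix_apply,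
    ← RingHom.map_det, hσ] at h
  refine MonoidHom.mem_ker.2 (Units.ext ?_)
  rw [powMonoidHom_apply, Units.val_pow_eq_pow_val, Matrix.GeneralLinearGroup.val_det_apply, pow_succ, Units.val_one]
  exact h

theorem ptype_dual (g : GL (Fin n) K) (hg : g ∈ Cfsg.GU n K q) :
    (ptype g).map (fun x => (dualPoly σ x.1, x.2)) = ptype g := by
  classical
  have hgood := ptype_good g
  have hG := (GUConj.mem_gu_iff_starQ hK _).1 hg
  have hgood' : GoodType n ((ptype g).map fun x => (dualPoly σ x.1, x.2)) := by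
    refine ⟨fun x hx => ?_, ?_⟩
    · obtain ⟨y, hy, rfl⟩ := Multiset.mem_map.1 hx
      obtain ⟨h1, h2, h3, h4⟩ := hgood.1 y hy
      refine ⟨monic_dualPoly σ h3, dualPoly_irreducible hK σ hσ h1 h2 h3, ?_, h4⟩
      show (dualPoly σ y.1).coeff 0 ≠ 0
      rw [coeff_dualPoly σ (Nat.zero_le _), Nat.sub_zero, h1.coeff_natDegree, map_one, mul_one]
      exact inv_ne_zero ((map_ne_zero σ).2 h3)
    · rw [Multiset.map_map]
      exact (congrArg Multiset.sum (Multiset.map_congr rfl fun y hy => by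
        simp only [Function.comp_apply, natDegree_dualPoly σ (hgood.1 y hy).2.2.1])).trans hgood.2
  refine (good_ext hgood hgood' fun P hP hirr k => ?_).symm
  have hσσ := sigma_sigma hK σ hσ
  rw [typeRank, typeRank, Multiset.map_map]
  rcases eq_or_ne (P.coeff 0) 0 with h0 | h0
  · refine congrArg Multiset.sum (Multiset.map_congr rfl fun y hy => ?_)
    have h3 := (hgood.1 y hy).2.2.1
    simp only [Function.comp_apply, natDegree_dualPoly σ h3]
    rw [if_neg (fun e : y.1 = P => h3 (by rw [e, h0])), if_neg (fun e : dualPoly σ y.1 = P => ?_)]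
    rw [← e, coeff_dualPoly σ (Nat.zero_le _), Nat.sub_zero, (hgood.1 y hy).1.coeff_natDegree, map_one, mul_one] at h0
    exact h3 ((map_eq_zero σ).1 (inv_eq_zero.1 h0))
  have hrank : rankOf (g : Matrix (Fin n) (Fin n) K) P k = rankOf (g : Matrix (Fin n) (Fin n) K) (dualPoly σ P) k := by
    have e : ∀ M : Matrix (Fin n) (Fin n) K, Module.finrank K (LinearMap.range (Matrix.toLin' M)) = M.rank :=
      fun M => by rw [Matrix.toLin'_apply']; rfl
    rw [rankOf, rankOf, e, e, ← map_pow, ← map_pow]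
    have h00 : (P ^ k).coeff 0 ≠ 0 := by
      rw [coeff_zero_eq_eval_zero, eval_pow, ← coeff_zero_eq_eval_zero]; exact pow_ne_zero _ h0
    rw [← GUClasses.rank_starQ hK, star_aeval_eq hK σ hσ hG h00, dual_pow hK σ hσ,
      ← Matrix.smul_mul, Matrix.rank_mul_eq_right_of_isUnit_det]
    rw [Matrix.det_smul, Matrix.det_pow]
    refine ((isUnit_iff_ne_zero.2 ((map_ne_zero σ).2 h00)).pow _).mul ((?_ : IsUnit _).pow _)
    exact (Matrix.isUnit_iff_isUnit_det _).1 (IsUnit.of_mul_eq_one _ hG)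
  have := hrank
  rw [rankOf_eq (ptype_spec g) hP hirr, rankOf_eq (ptype_spec g) (monic_dualPoly σ h0) (dualPoly_irreducible hK σ hσ hP hirr h0),
    typeRank, typeRank] at this
  refine this.trans ?_
  refine congrArg Multiset.sum (Multiset.map_congr rfl fun y hy => ?_)
  obtain ⟨h1, -, h3, -⟩ := hgood.1 y hy
  simp only [Function.comp_apply, natDegree_dualPoly σ h3]
  refine congrArg (fun t => y.1.natDegree * (y.2 - t)) (if_congr ⟨fun e => ?_, fun e => ?_⟩ rfl rfl)
  · rw [e, dualPoly_dualPoly σ hσσ hP h0]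
  · rw [← e, dualPoly_dualPoly σ hσσ h1 h3]

theorem exists_sdTup (g : ↥(Cfsg.SU n K q)) :
    ∃ T : SDTup σ n, ∀ j : Fin n, T.1.1.1 j = partProd (ptype (toGLU g)) ((j : ℕ) + 1) := by
  classical
  have hgood := ptype_good (toGLU g)
  have h1 : (ptype (toGLU g)).map (fun x => (twist (1 : K) x.1, x.2)) = ptype (toGLU g) :=
    (Multiset.map_congr rfl fun x _ => by simp [twist]).trans (Multiset.map_id' _)
  obtain ⟨T, hT⟩ := exists_dTup hgood (one_mul n).symm one_pos orderOf_one h1 (by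
    rw [← det_toLin_eq (ptype_spec _)]; exact (g : Matrix.SpecialLinearGroup (Fin n) K).2)
  simp only [expand_one] at hT
  have hd := ptype_dual hK σ hσ (toGLU g) g.2
  refine ⟨⟨T, fun j => ?_⟩, hT⟩
  have hprod : ∀ t : Multiset K[X], dualPoly σ t.prod = (t.map (dualPoly σ)).prod := fun t => by
    induction t using Multiset.induction with
    | empty => exact (isSD_one σ).2.2
    | cons a t ih => rw [Multiset.prod_cons, dualPoly_mul, ih, Multiset.map_cons, Multiset.prod_cons]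
  rw [hT j, partProd, hprod]
  conv_rhs => rw [← hd]
  rw [Multiset.filter_map, Multiset.map_map, Multiset.map_map]
  rfl

theorem card_classes_le_sum (hn : 1 ≤ n) :
    ∃ _ : Fintype (SDTup σ n), Nat.card (ConjClasses ↥(Cfsg.SU n K q)) ≤
      ∑ T : SDTup σ n, Nat.gcd (q + 1) (minPart T.1.1.1) := by
  classical
  haveI := finite_dTup (F := K) 1 n
  haveI : Finite (SDTup σ n) := Subtype.finite
  letI := Fintype.ofFinite (SDTup σ n)
  refine ⟨inferInstance, ?_⟩
  let g : ConjClasses ↥(Cfsg.SU n K q) → ↥(Cfsg.SU n K q) := fun c => c.exists_rep.choose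
  have hg : ∀ c, ConjClasses.mk (g c) = c := fun c => c.exists_rep.choose_spec
  choose T hT using fun c => exists_sdTup hK σ hσ (g c)
  have hsnd : ∀ c, ∀ x ∈ ptype (toGLU (g c)), 0 < x.2 ∧ x.2 ≤ n := fun c =>
    snd_le (ptype_good _) (one_mul n).symm one_pos orderOf_one
      ((Multiset.map_congr rfl fun x _ => by simp [twist]).trans (Multiset.map_id' _))
  have hS : ∀ c c', T c = T c' → ptype (toGLU (g c)) = ptype (toGLU (g c')) := fun c c' h =>
    eq_of_partProd (ptype_good _) (ptype_good _) (hsnd c) (hsnd c') fun j => by rw [← hT c j, ← hT c' j, h]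
  have hrep : ∀ t : SDTup σ n, ∃ r : ↥(Cfsg.SU n K q), ∀ c, T c = t → ∃ c₀, T c₀ = t ∧ r = g c₀ := fun t => by
    by_cases h : ∃ c, T c = t
    · obtain ⟨c₀, hc₀⟩ := h
      exact ⟨g c₀, fun c _ => ⟨c₀, hc₀, rfl⟩⟩
    · exact ⟨1, fun c hc => absurd ⟨c, hc⟩ h⟩
  choose r hr using hrep
  have hP : ∀ c, ∃ P : Cfsg.GU n K q, P * ⟨toGLU (r (T c)), (r (T c)).2⟩ * P⁻¹ = ⟨toGLU (g c), (g c).2⟩ := fun c => by
    obtain ⟨c₀, h0, hr0⟩ := hr (T c) c rfl
    exact isConj_iff.1 ((GUConj.isConj_iff_gl hK _ _).2 (isConj_of_ptype_eq (by rw [hr0]; exact hS c₀ c h0)))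
  choose P hP using hP
  let dμ : Cfsg.GU n K q →* normOne K q :=
    ((Matrix.GeneralLinearGroup.det : GL (Fin n) K →* Kˣ).comp (Cfsg.GU n K q).subtype).codRestrict _
      fun x => det_mem_normOne hK σ hσ x.1 x.2
  haveI : ∀ t : SDTup σ n, Finite (normOne K q ⧸ (powMonoidHom (minPart t.1.1.1) : normOne K q →* normOne K q).range) :=
    fun _ => inferInstance
  let φ : ConjClasses ↥(Cfsg.SU n K q) → Σ t : SDTup σ n,
      normOne K q ⧸ (powMonoidHom (minPart t.1.1.1) : normOne K q →* normOne K q).range := fun c =>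
    ⟨T c, QuotientGroup.mk (dμ (P c))⟩
  have hφ : Function.Injective φ := by
    intro c c' h
    obtain ⟨hTT, hcos⟩ := Sigma.mk.inj_iff.1 h
    have hcos' : (dμ (P c))⁻¹ * dμ (P c') ∈
        (powMonoidHom (minPart (T c).1.1.1) : normOne K q →* normOne K q).range := by
      revert hcos
      generalize hd : dμ (P c) = d
      generalize hd' : dμ (P c') = d'
      generalize T c' = t at hTT
      subst hTT
      intro hcos
      exact QuotientGroup.eq.1 (eq_of_heq hcos)
    obtain ⟨w, hw⟩ := hcos'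
    obtain ⟨c₀, h0, hr0⟩ := hr (T c) c rfl
    obtain ⟨⟨j, hj, hjd⟩, -⟩ := minPart_spec hn (T c).1.1
    have hx : ∃ x ∈ ptype (toGLU (r (T c))), x.2 = minPart (T c).1.1.1 := by
      rw [hr0]
      by_contra hne
      have hf : (ptype (toGLU (g c₀))).filter (fun x => x.2 = (j : ℕ) + 1) = 0 :=
        Multiset.filter_eq_nil.2 fun x hx hx' => hne ⟨x, hx, hx'.trans hj⟩
      rw [← h0, hT c₀ j, partProd, hf, Multiset.map_zero, Multiset.prod_zero, natDegree_one] at hjd
      omega
    obtain ⟨x, hx, hx2⟩ := hx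
    obtain ⟨e, he0, he⟩ := exists_div_pow hK w
    obtain ⟨Q, hQu, hQ, hQd⟩ := exists_gu_of_ptype hK σ hσ (toGLU (r (T c))) (r (T c)).2 hx he0
    let Q' : Cfsg.GU n K q := ⟨Q, hQu⟩
    let r' : Cfsg.GU n K q := ⟨toGLU (r (T c)), (r (T c)).2⟩
    have hQd' : dμ Q' = w ^ minPart (T c).1.1.1 := Subtype.ext (Units.ext (by
      show (Matrix.GeneralLinearGroup.det Q : K) = _
      rw [Matrix.GeneralLinearGroup.val_det_apply, hQd, hx2, SubmonoidClass.coe_pow, Units.val_pow_eq_pow_val, ← he,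
        div_pow, ← pow_mul, ← pow_mul, mul_comm q]))
    have hQc : Q' * r' = r' * Q' := Subtype.ext hQ
    obtain ⟨R, hR⟩ : ∃ R, R = P c' * (P c * Q')⁻¹ := ⟨_, rfl⟩
    have hRd : dμ R = 1 := by
      rw [hR, map_mul, map_inv, map_mul, hQd', show w ^ minPart (T c).1.1.1 = (dμ (P c))⁻¹ * dμ (P c') from hw,
        mul_inv_cancel_left, mul_inv_cancel]
    have hRdet : ((R : GL (Fin n) K) : Matrix (Fin n) (Fin n) K).det = 1 :=
      congrArg (fun t : normOne K q => ((t : Kˣ) : K)) hRd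
    have hconj : R * ⟨toGLU (g c), (g c).2⟩ * R⁻¹ = (⟨toGLU (g c'), (g c').2⟩ : Cfsg.GU n K q) := by
      rw [← hP c, ← hP c', hR]
      have e1 : P c' * Q'⁻¹ * r' * Q' * (P c')⁻¹ = P c' * r' * (P c')⁻¹ := by
        rw [mul_assoc (P c' * Q'⁻¹), ← hQc]; group
      calc _ = P c' * Q'⁻¹ * r' * Q' * (P c')⁻¹ := by show _ * (P c * r' * (P c)⁻¹) * _ = _; group
        _ = P c' * r' * (P c')⁻¹ := e1
        _ = _ := by simp only [r', hTT]
    rw [← hg c, ← hg c', ConjClasses.mk_eq_mk_iff_isConj]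
    refine isConj_iff.2 ⟨⟨⟨_, hRdet⟩, R.2⟩, ?_⟩
    rw [mul_inv_eq_iff_eq_mul] at hconj ⊢
    apply Subtype.ext
    apply Subtype.ext
    exact congrArg (fun t : Cfsg.GU n K q => ((t : GL (Fin n) K) : Matrix (Fin n) (Fin n) K)) hconj
  refine (Nat.card_le_card_of_injective φ hφ).trans (le_of_eq ?_)
  rw [Nat.card_sigma]
  refine Finset.sum_congr rfl fun t _ => ?_
  rw [← Subgroup.index_eq_card, IsCyclic.index_powMonoidHom_range, card_normOne hK]

omit hσ in
theorem card_sol_le (m : ℕ) (u R : K) :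
    Nat.card {a : K // a ^ (q + 1) = 1 ∧ (u * a) ^ m * R = 1} ≤ Nat.gcd (q + 1) m := by
  classical
  rcases isEmpty_or_nonempty {a : K // a ^ (q + 1) = 1 ∧ (u * a) ^ m * R = 1} with h | ⟨⟨a₀, h1, h2⟩⟩
  · simp
  have ha0 : a₀ ≠ 0 := fun h => by rw [h, zero_pow (by omega)] at h1; exact zero_ne_one h1
  have hu : (u : K) ^ m * R ≠ 0 := fun h => by
    rw [mul_pow, mul_right_comm, h, zero_mul] at h2; exact zero_ne_one h2
  let f : {a : K // a ^ (q + 1) = 1 ∧ (u * a) ^ m * R = 1} → (powMonoidHom (Nat.gcd (q + 1) m) : Kˣ →* Kˣ).ker :=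
    fun a => ⟨Units.mk0 (a.1 / a₀) (div_ne_zero (fun h => by
      have := a.2.1; rw [h, zero_pow (by omega)] at this; exact zero_ne_one this) ha0), by
      rw [MonoidHom.mem_ker, powMonoidHom_apply]
      refine pow_gcd_eq_one.2 ⟨Units.ext ?_, Units.ext ?_⟩
      · rw [Units.val_pow_eq_pow_val, Units.val_mk0, div_pow, a.2.1, h1, div_one, Units.val_one]
      · rw [Units.val_pow_eq_pow_val, Units.val_mk0, div_pow, Units.val_one, div_eq_one_iff_eq (pow_ne_zero _ ha0)]
        exact mul_left_cancel₀ hu (by linear_combination a.2.2 - h2)⟩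
  have hf : Function.Injective f := fun a b h => Subtype.ext (by
    have h' : a.1 / a₀ = b.1 / a₀ :=
      congrArg (fun x : (powMonoidHom (Nat.gcd (q + 1) m) : Kˣ →* Kˣ).ker => ((x : Kˣ) : K)) h
    exact (div_left_inj' ha0).1 h')
  refine (Nat.card_le_card_of_injective f hf).trans ?_
  rw [IsCyclic.card_powMonoidHom_ker]
  exact Nat.gcd_le_right _ (Nat.gcd_pos_of_pos_left _ (by omega))

theorem card_minPart_le' (m : ℕ) (hm : 1 ≤ m) (hmn : m ≤ n) :
    Nat.card {T : SDTup σ n // minPart T.1.1.1 = m} ≤ Nat.gcd (q + 1) m * partNum q n m := by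
  classical
  haveI := finite_rest σ n m n
  set j₀ : Fin n := ⟨m - 1, by omega⟩ with hj₀
  let S : ℕ → (Fin n → K[X]) → K → Prop := fun d h a => ((-1 : K) ^ (1 * d) * a) ^ m * tupDet 1 h = 1
  let X' := fun d => {R : Rest σ n m n // (R.1 j₀).natDegree = d ∧ S d (Function.update R.1 j₀ 1) ((R.1 j₀).coeff 0)}
  have hdeg : ∀ T : {T : SDTup σ n // minPart T.1.1.1 = m},
      1 ≤ (T.1.1.1.1 j₀).natDegree ∧ (T.1.1.1.1 j₀).natDegree ≤ n / m := fun T => by
    obtain ⟨⟨j, hj, hjd⟩, -⟩ := minPart_spec (by omega : 0 < n) T.1.1.1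
    rw [T.2] at hj
    obtain rfl : j = j₀ := Fin.ext (by simp only [hj₀]; omega)
    refine ⟨hjd, (Nat.le_div_iff_mul_le (by omega)).2 ?_⟩
    have := part_le T.1.1.1 j₀
    rw [show ((j₀ : ℕ) + 1) = m by omega, mul_comm] at this
    exact this
  let f : {T : SDTup σ n // minPart T.1.1.1 = m} → Σ d : ↥(Finset.Icc 1 (n / m)), X' d.1 := fun T =>
    ⟨⟨(T.1.1.1.1 j₀).natDegree, Finset.mem_Icc.2 (hdeg T)⟩,
      ⟨T.1.1.1.1, fun j => ⟨(T.1.1.1.2.1 j).1, (T.1.1.1.2.1 j).2, T.1.2 j⟩,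
        fun j hj => Nat.eq_zero_of_not_pos fun h => by
          have := (minPart_spec (by omega : 0 < n) T.1.1.1).2 j h
          rw [T.2] at this; omega,
        T.1.1.1.2.2⟩, rfl, by
      have h := T.1.1.2
      rw [tupDet, ← Finset.mul_prod_erase _ _ (Finset.mem_univ j₀), show ((j₀ : ℕ) + 1) = m by simp only [hj₀]; omega] at h
      show _ * tupDet 1 _ = 1
      rw [tupDet, ← Finset.mul_prod_erase _ _ (Finset.mem_univ j₀), Finset.prod_congr rfl (fun i hi => by
          rw [Function.update_of_ne (Finset.ne_of_mem_erase hi)])]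
      simp only [Function.update_self, natDegree_one, coeff_one_zero, mul_zero, pow_zero, one_mul, one_pow] at h ⊢
      exact h⟩
  have hf : Function.Injective f := fun T T' h => Subtype.ext (Subtype.ext (Subtype.ext (Subtype.ext
    (congrArg (fun x : Σ d : ↥(Finset.Icc 1 (n / m)), X' d.1 => x.2.1.1) h))))
  haveI : ∀ d, Finite (X' d) := fun d => Subtype.finite
  refine (Nat.card_le_card_of_injective f hf).trans ?_
  rw [Nat.card_sigma, Finset.sum_coe_sort (Finset.Icc 1 (n / m)) fun d => Nat.card (X' d), partNum, Finset.mul_sum]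
  refine Finset.sum_le_sum fun d hd => ?_
  rw [Finset.mem_Icc] at hd
  refine (card_split hK σ hσ m n d hm hmn hd.1 (S d) (Nat.gcd (q + 1) m) fun R => card_sol_le hK m _ _).trans ?_
  rw [← mul_assoc]
  exact Nat.mul_le_mul_left _ (card_rest_le_tupNum hK σ hσ (n - m) (m + 1) _ (by omega) (by omega))

omit hσ in
theorem card_classes_bounds (hn : 2 ≤ n) :
    q ^ (n - 1) ≤ Nat.card (ConjClasses ↥(Cfsg.SU n K q)) ∧
      100 * Nat.card (ConjClasses ↥(Cfsg.SU n K q)) ≤ 826 * q ^ (n - 1) := by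
  classical
  obtain ⟨σ, hσ, -, -⟩ := exists_qPow hK
  constructor
  · obtain ⟨k, rfl⟩ := Nat.exists_eq_add_of_le' (show 1 ≤ n by omega)
    obtain ⟨p, hc⟩ := CharP.exists K
    haveI : Fact p.Prime := ⟨CharP.char_is_prime K p⟩
    rw [Nat.add_sub_cancel, ← SUSemisimple.su_card_classes hK p (k := k)]
    exact Finite.card_subtype_le _
  · obtain ⟨inst, hle⟩ := card_classes_le_sum hK σ hσ (n := n) (by omega)
    letI := inst
    refine (Nat.mul_le_mul_left _ (hle.trans ?_)).trans (final_bound (two_le_q hK) hn)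
    have hmem : ∀ T : SDTup σ n, minPart T.1.1.1 ∈ Finset.Icc 1 n := fun T => by
      obtain ⟨⟨j, hj, -⟩, -⟩ := minPart_spec (by omega : 0 < n) T.1.1
      rw [← hj, Finset.mem_Icc]
      omega
    rw [← Finset.sum_fiberwise_of_maps_to (g := fun T : SDTup σ n => minPart T.1.1.1) (t := Finset.Icc 1 n)
      fun T _ => hmem T]
    refine Finset.sum_le_sum fun m hm => ?_
    rw [Finset.mem_Icc] at hm
    rw [Finset.sum_congr rfl (g := fun _ => Nat.gcd (q + 1) m) (fun T hT => by rw [(Finset.mem_filter.1 hT).2]),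
      Finset.sum_const, smul_eq_mul, sq, mul_comm, mul_assoc]
    refine Nat.mul_le_mul_left _ ?_
    refine le_of_eq_of_le ?_ (card_minPart_le' hK σ hσ m hm.1 hm.2)
    rw [Nat.card_eq_fintype_card, Fintype.card_subtype]

end CfsgLib.SUBound
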