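import Mathlib

/-!
# Estimates for the number of tuples of self-dual polynomials
-/

set_option autoImplicit false

namespace CfsgLib.SUBound

open Finset

/-- Tuples of self-dual monic polynomials with parts in `[m, m + k)` and weight `r`. -/
def tupNum (q : ℕ) : ℕ → ℕ → ℕ → ℕ
  | 0, _, r => if r = 0 then 1 else 0
  | k + 1, m, r => tupNum q k (m + 1) r +
      (q + 1) * ∑ d ∈ Icc 1 (r / m), q ^ (d - 1) * tupNum q k (m + 1) (r - m * d)

/-- Tuples of weight `n` with smallest part `m` and the constant term of that part fixed. -/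
def partNum (q n m : ℕ) : ℕ :=
  ∑ d ∈ Icc 1 (n / m), q ^ (d - 1) * tupNum q (n - m) (m + 1) (n - m * d)

theorem tupNum_zero (q : ℕ) : ∀ k m, 1 ≤ m → tupNum q k m 0 = 1
  | 0, _, _ => if_pos rfl
  | k + 1, m, hm => by
    rw [tupNum, tupNum_zero q k (m + 1) (by omega), Nat.zero_div, Icc_eq_empty (by omega), sum_empty, mul_zero, add_zero]

theorem tupNum_eq_sum (q n : ℕ) (hn : 0 < n) : ∀ k m, 1 ≤ m → m + k = n + 1 →
    tupNum q k m n = (q + 1) * ∑ i ∈ Icc m n, partNum q n i := by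
  intro k
  induction k with
  | zero =>
    intro m _ h
    rw [tupNum, if_neg hn.ne', Icc_eq_empty (by omega), sum_empty, mul_zero]
  | succ k ih =>
    intro m hm h
    rw [tupNum, ih (m + 1) (by omega) (by omega), ← Finset.insert_Icc_add_one_left_eq_Icc (show m ≤ n by omega),
      sum_insert (by simp), partNum, show n - m = k by omega]
    ring

/-- The weights scaled by `q ^ r`. -/
noncomputable def wt (q k m r : ℕ) : ℝ := (tupNum q k m r : ℝ) / (q : ℝ) ^ r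

theorem wt_nonneg (q k m r : ℕ) : 0 ≤ wt q k m r := by unfold wt; positivity

theorem wt_zero (q k m : ℕ) (hm : 1 ≤ m) : wt q k m 0 = 1 := by
  simp [wt, tupNum_zero q k m hm]

theorem scale_term {q m r d : ℕ} (hq : 2 ≤ q) (hm : 1 ≤ m) (hd : 1 ≤ d) (hdr : m * d ≤ r) :
    (q : ℝ) * ((q : ℝ) ^ (d - 1) / (q : ℝ) ^ r) =
      ((1 / (q : ℝ)) ^ (m - 1)) ^ d / (q : ℝ) ^ (r - m * d) := by
  have h0 : (q : ℝ) ≠ 0 := Nat.cast_ne_zero.2 (by omega)
  rw [one_div, inv_pow, inv_pow, ← pow_mul, mul_div_assoc', ← pow_succ', Nat.sub_add_cancel hd,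
    div_eq_div_iff (pow_ne_zero _ h0) (pow_ne_zero _ h0)]
  have e : (q : ℝ) ^ r = (q : ℝ) ^ d * (q : ℝ) ^ (r - m * d) * (q : ℝ) ^ ((m - 1) * d) := by
    rw [← pow_add, ← pow_add]
    congr 1
    obtain ⟨m, rfl⟩ : ∃ t, m = t + 1 := ⟨m - 1, by omega⟩
    rw [Nat.add_sub_cancel, add_mul, one_mul] at *
    omega
  rw [e]
  field_simp

theorem wt_succ (q k m r : ℕ) (hq : 2 ≤ q) (hm : 1 ≤ m) :
    wt q (k + 1) m r = wt q k (m + 1) r + (1 + 1 / (q : ℝ)) *
      ∑ d ∈ Icc 1 (r / m), ((1 / (q : ℝ)) ^ (m - 1)) ^ d * wt q k (m + 1) (r - m * d) := by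
  have h0 : (q : ℝ) ≠ 0 := Nat.cast_ne_zero.2 (by omega)
  rw [wt, tupNum, Nat.cast_add, add_div, Nat.cast_mul, Nat.cast_sum, mul_div_assoc, sum_div, Nat.cast_add, Nat.cast_one]
  refine congrArg₂ (· + ·) rfl ?_
  rw [mul_sum, mul_sum]
  refine sum_congr rfl fun d hd => ?_
  rw [mem_Icc] at hd
  have h := scale_term hq hm hd.1 ((Nat.mul_le_mul_left m hd.2).trans (Nat.mul_div_le r m))
  rw [Nat.cast_mul, Nat.cast_pow, wt,
    show ((1 / (q : ℝ)) ^ (m - 1)) ^ d * ((tupNum q k (m + 1) (r - m * d) : ℝ) / (q : ℝ) ^ (r - m * d)) =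
      (((1 / (q : ℝ)) ^ (m - 1)) ^ d / (q : ℝ) ^ (r - m * d)) * tupNum q k (m + 1) (r - m * d) by ring, ← h]
  field_simp

/-- The sum of the scaled weights. -/
noncomputable def wtSum (q k m N : ℕ) : ℝ := ∑ i ∈ range (N + 1), wt q k m i

theorem wtSum_nonneg (q k m N : ℕ) : 0 ≤ wtSum q k m N := sum_nonneg fun _ _ => wt_nonneg ..

/-- The factor of the Euler product at `m`. -/
noncomputable def fac (q m : ℕ) : ℝ := (1 + (1 / (q : ℝ)) ^ m) / (1 - (1 / (q : ℝ)) ^ (m - 1))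

theorem inv_pow_lt_one {q j : ℕ} (hq : 2 ≤ q) (hj : 1 ≤ j) : (1 / (q : ℝ)) ^ j < 1 := by
  refine pow_lt_one₀ (by positivity) ?_ (by omega)
  rw [div_lt_one (by positivity)]
  exact_mod_cast (show 1 < q by omega)

theorem one_le_fac {q m : ℕ} (hq : 2 ≤ q) (hm : 2 ≤ m) : 1 ≤ fac q m := by
  have h := inv_pow_lt_one (q := q) (j := m - 1) hq (by omega)
  rw [fac, le_div_iff₀ (by linarith)]
  have : (0 : ℝ) ≤ (1 / (q : ℝ)) ^ m := by positivity
  have : (0 : ℝ) ≤ (1 / (q : ℝ)) ^ (m - 1) := by positivity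
  linarith

theorem geom_bound {y : ℝ} (h0 : 0 ≤ y) (h1 : y < 1) : ∀ N : ℕ, ∑ d ∈ Icc 1 N, y ^ d ≤ y / (1 - y) := by
  intro N
  suffices h : ∑ d ∈ Icc 1 N, y ^ d ≤ (y - y ^ (N + 1)) / (1 - y) from
    h.trans (div_le_div_of_nonneg_right (by linarith [pow_nonneg h0 (N + 1)]) (by linarith))
  induction N with
  | zero => simp
  | succ N ih =>
    rw [sum_Icc_succ_top (by omega)]
    refine (add_le_add ih le_rfl).trans (le_of_eq ?_)
    have : (1 : ℝ) - y ≠ 0 := by linarith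
    field_simp
    ring

theorem wtSum_succ_le {q m : ℕ} (hq : 2 ≤ q) (hm : 2 ≤ m) (k N : ℕ) :
    wtSum q (k + 1) m N ≤ fac q m * wtSum q k (m + 1) N := by
  set y : ℝ := (1 / (q : ℝ)) ^ (m - 1) with hy
  have hy0 : 0 ≤ y := by positivity
  have hy1 : y < 1 := inv_pow_lt_one hq (by omega)
  have hS := wtSum_nonneg q k (m + 1) N
  have hswap : ∑ i ∈ range (N + 1), ∑ d ∈ Icc 1 (i / m), y ^ d * wt q k (m + 1) (i - m * d) ≤
      (y / (1 - y)) * wtSum q k (m + 1) N := by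
    rw [sum_comm' (t' := Icc 1 N) (s' := fun d => (range (N + 1)).filter fun i => m * d ≤ i) ?_]
    · refine le_trans (sum_le_sum fun d _ => ?_) (le_trans (le_of_eq (sum_mul _ _ _).symm)
        (mul_le_mul_of_nonneg_right (geom_bound hy0 hy1 N) hS))
      rw [← mul_sum]
      refine mul_le_mul_of_nonneg_left ?_ (pow_nonneg hy0 d)
      refine le_trans (le_of_eq ?_) (sum_le_sum_of_subset_of_nonneg (s := ((range (N + 1)).filter fun i => m * d ≤ i).image fun i => i - m * d)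
        ?_ fun _ _ _ => wt_nonneg ..)
      · rw [sum_image]
        intro a ha b hb hab
        simp only [coe_filter, mem_range, Set.mem_setOf_eq] at ha hb
        simp only at hab
        omega
      · intro i hi
        simp only [mem_image, mem_filter, mem_range] at hi ⊢
        omega
    · intro i d
      simp only [mem_range, mem_Icc, mem_filter]
      constructor
      · rintro ⟨hi, hd, hd'⟩
        have := (Nat.mul_le_mul_left m hd').trans (Nat.mul_div_le i m)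
        have := Nat.le_mul_of_pos_left d (show 0 < m by omega)
        refine ⟨⟨hi, by omega⟩, hd, by omega⟩
      · rintro ⟨⟨hi, hmd⟩, hd, -⟩
        exact ⟨hi, hd, (Nat.le_div_iff_mul_le (by omega)).2 (by rw [mul_comm]; exact hmd)⟩
  have hfac : fac q m = 1 + (1 + 1 / (q : ℝ)) * (y / (1 - y)) := by
    have e : (1 / (q : ℝ)) ^ m = y * (1 / (q : ℝ)) := by
      rw [hy, ← pow_succ, Nat.sub_add_cancel (by omega)]
    have : (1 : ℝ) - y ≠ 0 := by linarith
    rw [fac, ← hy, e]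
    field_simp
    ring
  have e1 : wtSum q (k + 1) m N = wtSum q k (m + 1) N + (1 + 1 / (q : ℝ)) *
      ∑ i ∈ range (N + 1), ∑ d ∈ Icc 1 (i / m), y ^ d * wt q k (m + 1) (i - m * d) := by
    rw [wtSum, wtSum, mul_sum, ← sum_add_distrib]
    exact sum_congr rfl fun i _ => wt_succ q k m i hq (by omega)
  rw [e1, hfac]
  linarith [mul_le_mul_of_nonneg_left hswap (show (0 : ℝ) ≤ 1 + 1 / (q : ℝ) by positivity)]

theorem wtSum_base (q m N : ℕ) : wtSum q 0 m N = 1 := by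
  rw [wtSum, sum_eq_single 0]
  · simp [wt, tupNum]
  · intro i _ hi; simp [wt, tupNum, hi]
  · simp

/-- `(q + 1) / (q - 1)` bounds the tail. -/
theorem wtSum_tail {q : ℕ} (hq : 2 ≤ q) {c : ℝ} (hc : (q : ℝ) + 1 ≤ c * ((q : ℝ) - 1)) :
    ∀ k m N, 2 ≤ m → c * (1 / (q : ℝ)) ^ (m - 1) < 1 →
      wtSum q k m N ≤ 1 / (1 - c * (1 / (q : ℝ)) ^ (m - 1)) := by
  have hq' : (2 : ℝ) ≤ q := by exact_mod_cast hq
  have hc0 : 0 < c := by nlinarith
  intro k
  induction k with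
  | zero =>
    intro m N _ h
    rw [wtSum_base, le_div_iff₀ (by linarith), one_mul]
    have : 0 ≤ c * (1 / (q : ℝ)) ^ (m - 1) := by positivity
    linarith
  | succ k ih =>
    intro m N hm h
    set y : ℝ := (1 / (q : ℝ)) ^ (m - 1) with hy
    have hy0 : 0 < y := by positivity
    have e : (1 / (q : ℝ)) ^ m = y * (1 / (q : ℝ)) := by
      rw [hy, ← pow_succ, Nat.sub_add_cancel (by omega)]
    have hy1 : y < 1 := inv_pow_lt_one hq (by omega)
    have hi : (1 / (q : ℝ)) ≤ 1 / 2 := one_div_le_one_div_of_le two_pos hq'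
    have hyi : c * (y * (1 / (q : ℝ))) ≤ c * y * (1 / 2) := by
      rw [← mul_assoc]; exact mul_le_mul_of_nonneg_left hi (by positivity)
    have h' : c * (1 / (q : ℝ)) ^ (m + 1 - 1) < 1 := by
      rw [Nat.add_sub_cancel, e]; nlinarith
    refine (wtSum_succ_le hq hm k N).trans ?_
    refine (mul_le_mul_of_nonneg_left (ih (m + 1) N (by omega) h') (zero_le_one.trans (one_le_fac hq hm))).trans ?_
    rw [Nat.add_sub_cancel, fac, ← hy, e, div_mul_div_comm, mul_one,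
      div_le_div_iff₀ (mul_pos (by linarith) (by nlinarith)) (by linarith), one_mul]
    have key : 1 + 1 / (q : ℝ) ≤ c * (1 - 1 / (q : ℝ)) := by
      rw [show 1 + 1 / (q : ℝ) = ((q : ℝ) + 1) / q by field_simp,
        show c * (1 - 1 / (q : ℝ)) = c * ((q : ℝ) - 1) / q by field_simp]
      gcongr
    nlinarith [mul_le_mul_of_nonneg_left key hy0.le, show 0 ≤ c * y * (y * (1 / (q : ℝ))) by positivity]

theorem wtSum_step {q m : ℕ} (hq : 2 ≤ q) (hm : 2 ≤ m) {f B : ℝ} (hf : fac q m ≤ f) (hB : 1 ≤ B)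
    (h : ∀ k N, wtSum q k (m + 1) N ≤ B) : ∀ k N, wtSum q k m N ≤ f * B := by
  have h1 := (one_le_fac hq hm).trans hf
  intro k N
  rcases k with _ | k
  · rw [wtSum_base]; nlinarith
  · exact (wtSum_succ_le hq hm k N).trans (mul_le_mul hf (h k N) (wtSum_nonneg ..) (by linarith))

theorem wtSum_two_bounds :
    (∀ k m N, 4 ≤ m → wtSum 2 k m N ≤ 147 / 100) ∧ ∀ k N, wtSum 2 k 2 N ≤ 5511 / 1000 := by
  have tail : ∀ k m N, 7 ≤ m → wtSum 2 k m N ≤ 64 / 61 := by
    intro k m N hm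
    have hp : (1 / ((2 : ℕ) : ℝ)) ^ (m - 1) ≤ 1 / 64 := by
      refine (pow_le_pow_of_le_one (by norm_num) (by norm_num) (show 6 ≤ m - 1 by omega)).trans (by norm_num)
    refine (wtSum_tail (c := 3) le_rfl (by norm_num) k m N (by omega) (by linarith)).trans ?_
    rw [div_le_iff₀ (by linarith)]
    linarith
  have b6 := wtSum_step (q := 2) (m := 6) le_rfl (by norm_num) (f := 65 / 62) (by norm_num [fac]) (B := 64 / 61)
    (by norm_num) fun k N => tail k 7 N le_rfl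
  have b5 := wtSum_step (q := 2) (m := 5) le_rfl (by norm_num) (f := 11 / 10) (by norm_num [fac]) (by norm_num) b6
  have b4 := wtSum_step (q := 2) (m := 4) le_rfl (by norm_num) (f := 17 / 14) (by norm_num [fac]) (by norm_num) b5
  have b3 := wtSum_step (q := 2) (m := 3) le_rfl (by norm_num) (f := 3 / 2) (by norm_num [fac]) (by norm_num) b4
  have b2 := wtSum_step (q := 2) (m := 2) le_rfl (by norm_num) (f := 5 / 2) (by norm_num [fac]) (by norm_num) b3
  refine ⟨fun k m N hm => ?_, fun k N => (b2 k N).trans (by norm_num)⟩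
  rcases (show m = 4 ∨ m = 5 ∨ m = 6 ∨ 7 ≤ m by omega) with rfl | rfl | rfl | h
  · exact (b4 k N).trans (by norm_num)
  · exact (b5 k N).trans (by norm_num)
  · exact (b6 k N).trans (by norm_num)
  · exact (tail k m N h).trans (by norm_num)

theorem wtSum_general_bounds {q : ℕ} (hq : 3 ≤ q) :
    (∀ k m N, 3 ≤ m → wtSum q k m N ≤ 9 / 7) ∧ ∀ k N, wtSum q k 2 N ≤ 15 / 7 := by
  have hq' : (3 : ℝ) ≤ q := by exact_mod_cast hq
  have hi : (1 / (q : ℝ)) ≤ 1 / 3 := one_div_le_one_div_of_le (by norm_num) hq'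
  have h0 : (0 : ℝ) ≤ 1 / (q : ℝ) := by positivity
  have b3 : ∀ k m N, 3 ≤ m → wtSum q k m N ≤ 9 / 7 := by
    intro k m N hm
    have hp : (1 / (q : ℝ)) ^ (m - 1) ≤ 1 / 9 := by
      refine (pow_le_pow_of_le_one h0 (by linarith) (show 2 ≤ m - 1 by omega)).trans ?_
      rw [show (1 / 9 : ℝ) = (1 / 3) ^ 2 by norm_num]
      gcongr
    refine (wtSum_tail (c := 2) (by omega) (by linarith) k m N (by omega) (by linarith)).trans ?_
    rw [div_le_iff₀ (by linarith)]
    linarith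
  refine ⟨b3, fun k N => ?_⟩
  refine (wtSum_step (f := 5 / 3) (by omega) le_rfl ?_ (by norm_num) (fun k N => b3 k 3 N le_rfl) k N).trans
    (by norm_num)
  rw [fac, pow_one, div_le_iff₀ (by linarith)]
  nlinarith

theorem wt_le_one {q k m r : ℕ} (hm : 1 ≤ m) (h : ∀ N, wtSum q k m N ≤ 2) : wt q k m r ≤ 1 := by
  rcases Nat.eq_zero_or_pos r with rfl | hr
  · rw [wt_zero q k m hm]
  have h1 := h r
  have h2 : wt q k m 0 + wt q k m r ≤ wtSum q k m r := by
    rw [wtSum, ← sum_pair hr.ne]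
    exact sum_le_sum_of_subset_of_nonneg (by intro i; simp; omega) fun _ _ _ => wt_nonneg ..
  rw [wt_zero q k m hm] at h2
  linarith

theorem partNum_scaled {q n m : ℕ} (hq : 2 ≤ q) (hm : 1 ≤ m) :
    (q : ℝ) * ((partNum q n m : ℝ) / (q : ℝ) ^ n) =
      ∑ d ∈ Icc 1 (n / m), ((1 / (q : ℝ)) ^ (m - 1)) ^ d * wt q (n - m) (m + 1) (n - m * d) := by
  rw [partNum, Nat.cast_sum, sum_div, mul_sum]
  refine sum_congr rfl fun d hd => ?_
  rw [mem_Icc] at hd
  have h := scale_term hq hm hd.1 ((Nat.mul_le_mul_left m hd.2).trans (Nat.mul_div_le n m))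
  rw [Nat.cast_mul, Nat.cast_pow, wt,
    show ((1 / (q : ℝ)) ^ (m - 1)) ^ d * ((tupNum q (n - m) (m + 1) (n - m * d) : ℝ) / (q : ℝ) ^ (n - m * d)) =
      (((1 / (q : ℝ)) ^ (m - 1)) ^ d / (q : ℝ) ^ (n - m * d)) * tupNum q (n - m) (m + 1) (n - m * d) by ring, ← h]
  ring

theorem partNum_le {q n m : ℕ} (hq : 2 ≤ q) (hm : 1 ≤ m) {B : ℝ} (hB : 1 ≤ B) (hB2 : B ≤ 2)
    (hS : ∀ k N, wtSum q k (m + 1) N ≤ B) :
    (q : ℝ) * ((partNum q n m : ℝ) / (q : ℝ) ^ n) ≤
      (1 / (q : ℝ)) ^ (m - 1) * (1 + (1 / (q : ℝ)) ^ (m - 1) * (B - 1)) := by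
  rw [partNum_scaled hq hm]
  set y : ℝ := (1 / (q : ℝ)) ^ (m - 1) with hy
  have hy0 : 0 ≤ y := by positivity
  have hy1 : y ≤ 1 := pow_le_one₀ (by positivity) (by
    rw [div_le_one (by positivity)]; exact_mod_cast (show 1 ≤ q by omega))
  rcases Nat.lt_or_ge n m with hnm | hnm
  · rw [Nat.div_eq_of_lt hnm, Icc_eq_empty (by omega), sum_empty]
    have : 0 ≤ B - 1 := by linarith
    positivity
  set k := n - m
  have h1 : 1 ∈ Icc 1 (n / m) := mem_Icc.2 ⟨le_rfl, (Nat.le_div_iff_mul_le (by omega)).2 (by omega)⟩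
  rw [← add_sum_erase _ _ h1, pow_one, mul_one]
  have hr := wt_le_one (r := n - m) (show 1 ≤ m + 1 by omega) fun N => (hS k N).trans hB2
  have hrest : ∑ d ∈ (Icc 1 (n / m)).erase 1, y ^ d * wt q k (m + 1) (n - m * d) ≤
      y ^ 2 * (B - wt q k (m + 1) (n - m)) := by
    refine (sum_le_sum fun d hd => mul_le_mul_of_nonneg_right ?_ (wt_nonneg ..)).trans
      ((le_of_eq (mul_sum _ _ _).symm).trans (mul_le_mul_of_nonneg_left ?_ (by positivity)))
    · exact pow_le_pow_of_le_one hy0 hy1 (by simp only [mem_erase, mem_Icc] at hd; omega)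
    · have h2 : wt q k (m + 1) (n - m) + ∑ d ∈ (Icc 1 (n / m)).erase 1, wt q k (m + 1) (n - m * d) ≤
          wtSum q k (m + 1) n := by
        have e : ∀ d ∈ Icc 1 (n / m), m * d ≤ n := fun d hd =>
          (Nat.mul_le_mul_left m (mem_Icc.1 hd).2).trans (Nat.mul_div_le n m)
        calc _ = ∑ d ∈ Icc 1 (n / m), wt q k (m + 1) (n - m * d) := by
              rw [← add_sum_erase _ _ h1, mul_one]
          _ = ∑ i ∈ (Icc 1 (n / m)).image (fun d => n - m * d), wt q k (m + 1) i := by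
              rw [sum_image]
              intro a ha b hb hab
              have := e a ha
              have := e b hb
              simp only at hab
              exact Nat.eq_of_mul_eq_mul_left (by omega : 0 < m) (by omega)
          _ ≤ _ := sum_le_sum_of_subset_of_nonneg (fun i hi => by
              simp only [mem_image, mem_range] at hi ⊢; omega) fun _ _ _ => wt_nonneg ..
      linarith [hS k n]
  have : y * wt q k (m + 1) (n - m) + y ^ 2 * (B - wt q k (m + 1) (n - m)) ≤ y * (1 + y * (B - 1)) := by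
    nlinarith [mul_nonneg hy0 (sub_nonneg.2 hy1), mul_le_mul_of_nonneg_left hr (mul_nonneg hy0 (sub_nonneg.2 hy1))]
  linarith

theorem sum_sq_geom : ∀ M : ℕ, ∑ m ∈ Icc 2 M, (m : ℝ) ^ 2 * (1 / 3) ^ (m - 1) ≤ 7 / 2 := by
  intro M
  suffices h : ∀ M : ℕ, ∑ m ∈ Icc 2 (M + 1), (m : ℝ) ^ 2 * (1 / 3) ^ (m - 1) ≤
      7 / 2 - (3 / 2 * ((M : ℝ) + 1) ^ 2 + 9 / 2 * ((M : ℝ) + 1) + 9 / 2) * (1 / 3) ^ (M + 1) by
    rcases M with _ | M
    · norm_num
    · refine (h M).trans ?_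
      have : (0 : ℝ) ≤ (3 / 2 * ((M : ℝ) + 1) ^ 2 + 9 / 2 * ((M : ℝ) + 1) + 9 / 2) * (1 / 3) ^ (M + 1) := by positivity
      linarith
  intro M
  induction M with
  | zero => norm_num
  | succ M ih =>
    rw [sum_Icc_succ_top (by omega), Nat.add_sub_cancel]
    refine (add_le_add ih le_rfl).trans (le_of_eq ?_)
    push_cast
    ring

theorem sum_mult_three : ∀ M : ℕ, ∑ m ∈ range M, (if 3 ∣ m ∧ 0 < m then (1 / 2 : ℝ) ^ (m - 1) else 0) ≤ 2 / 7 := by
  intro M
  induction M using Nat.strong_induction_on with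
  | _ M ih =>
  rcases (show M ≤ 3 ∨ 4 ≤ M by omega) with h | h
  · interval_cases M <;> norm_num [sum_range_succ]
  · obtain ⟨M, rfl⟩ : ∃ t, M = 4 + t := ⟨M - 4, by omega⟩
    rw [sum_range_add]
    have e : ∀ i, (if 3 ∣ 4 + i ∧ 0 < 4 + i then (1 / 2 : ℝ) ^ (4 + i - 1) else 0) =
        1 / 8 * (if 3 ∣ i + 1 ∧ 0 < i + 1 then (1 / 2 : ℝ) ^ (i + 1 - 1) else 0) := fun i => by
      by_cases h3 : 3 ∣ i + 1
      · rw [if_pos ⟨by omega, by omega⟩, if_pos ⟨h3, by omega⟩, show 4 + i - 1 = 3 + (i + 1 - 1) by omega, pow_add]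
        norm_num
      · rw [if_neg (by omega), if_neg (by omega), mul_zero]
    simp only [e, ← mul_sum]
    have h1 := ih (M + 1) (by omega)
    rw [sum_range_succ'] at h1
    norm_num [sum_range_succ] at h1 ⊢
    linarith

theorem final_bound {q n : ℕ} (hq : 2 ≤ q) (hn : 2 ≤ n) :
    100 * ∑ m ∈ Icc 1 n, Nat.gcd (q + 1) m ^ 2 * partNum q n m ≤ 826 * q ^ (n - 1) := by
  have h0 : (q : ℝ) ≠ 0 := Nat.cast_ne_zero.2 (by omega)
  have hqn : (0 : ℝ) < (q : ℝ) ^ n := by positivity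
  -- the scaled counts
  obtain ⟨W, hW⟩ : ∃ W : ℕ → ℝ, ∀ m, W m = (q : ℝ) * ((partNum q n m : ℝ) / (q : ℝ) ^ n) := ⟨_, fun _ => rfl⟩
  have hW0 : ∀ m, 0 ≤ W m := fun m => by rw [hW]; positivity
  have hW1 : W 1 + wt q (n - 1) 2 n ≤ wtSum q (n - 1) 2 n := by
    rw [hW, partNum_scaled hq le_rfl, wtSum, sum_range_succ]
    refine add_le_add (le_of_eq ?_) le_rfl
    refine sum_bij' (fun d _ => n - d) (fun i _ => n - i) ?_ ?_ ?_ ?_ ?_
    all_goals simp only [mem_Icc, mem_range, Nat.div_one, one_mul, Nat.sub_self, pow_zero, one_pow]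
    all_goals intros
    all_goals first | omega | rfl | trivial
  have hrest : wt q (n - 1) 2 n = (1 + 1 / (q : ℝ)) * ∑ m ∈ Icc 2 n, W m := by
    rw [wt, tupNum_eq_sum q n (by omega) (n - 1) 2 (by norm_num) (by omega), mul_sum]
    push_cast
    rw [sum_div, mul_sum]
    refine sum_congr rfl fun m _ => ?_
    rw [hW]
    field_simp
  suffices h : W 1 + ∑ m ∈ Icc 2 n, (Nat.gcd (q + 1) m : ℝ) ^ 2 * W m ≤ 826 / 100 by
    have e : (q : ℝ) ^ n = (q : ℝ) * (q : ℝ) ^ (n - 1) := by rw [← pow_succ', Nat.sub_add_cancel (by omega)]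
    have h' := mul_le_mul_of_nonneg_right h (show (0 : ℝ) ≤ 100 * (q : ℝ) ^ (n - 1) by positivity)
    have key : (W 1 + ∑ m ∈ Icc 2 n, (Nat.gcd (q + 1) m : ℝ) ^ 2 * W m) * (100 * (q : ℝ) ^ (n - 1)) =
        100 * ∑ m ∈ Icc 1 n, ((Nat.gcd (q + 1) m : ℝ) ^ 2 * (partNum q n m : ℝ)) := by
      rw [← Finset.insert_Icc_add_one_left_eq_Icc (show 1 ≤ n by omega), sum_insert (by simp), mul_add, add_mul,
        sum_mul, mul_sum]
      refine congrArg₂ (· + ·) ?_ (sum_congr rfl fun m _ => ?_)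
      · rw [hW, e, Nat.gcd_one_right]
        push_cast
        field_simp
      · rw [hW, e]
        field_simp
    rw [key] at h'
    have h'' : ((100 * ∑ m ∈ Icc 1 n, Nat.gcd (q + 1) m ^ 2 * partNum q n m : ℕ) : ℝ) ≤
        ((826 * q ^ (n - 1) : ℕ) : ℝ) := by
      push_cast
      linarith
    exact_mod_cast h''
  rcases (show q = 2 ∨ 3 ≤ q by omega) with rfl | hq3
  · obtain ⟨b4, b2⟩ := wtSum_two_bounds
    have key : ∀ m ∈ Icc 2 n, (Nat.gcd (2 + 1) m : ℝ) ^ 2 * W m ≤ (3 / 2) * W m +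
        (15 / 2) * (112 / 100) * (if 3 ∣ m ∧ 0 < m then (1 / 2 : ℝ) ^ (m - 1) else 0) := by
      intro m hm
      rw [mem_Icc] at hm
      by_cases h3 : 3 ∣ m
      · rw [if_pos ⟨h3, by omega⟩, show Nat.gcd (2 + 1) m = 3 from Nat.gcd_eq_left h3]
        have hle := partNum_le (n := n) (q := 2) (m := m) le_rfl (by omega) (B := 147 / 100) (by norm_num)
          (by norm_num) fun k N => b4 k (m + 1) N (by omega)
        rw [← hW, show (1 / ((2 : ℕ) : ℝ)) = 1 / 2 by norm_num] at hle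
        have hy : (1 / 2 : ℝ) ^ (m - 1) ≤ 1 / 4 :=
          (pow_le_pow_of_le_one (by norm_num) (by norm_num) (show 2 ≤ m - 1 by omega)).trans (by norm_num)
        have hy0 : (0 : ℝ) ≤ (1 / 2 : ℝ) ^ (m - 1) := by positivity
        push_cast
        nlinarith
      · rw [if_neg (fun h => h3 h.1), show Nat.gcd (2 + 1) m = 1 from (Nat.prime_three.coprime_iff_not_dvd.2 h3)]
        have := hW0 m
        push_cast
        linarith
    have hs := sum_le_sum key
    rw [sum_add_distrib, ← mul_sum, ← mul_sum] at hs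
    have h3 : ∑ m ∈ Icc 2 n, (if 3 ∣ m ∧ 0 < m then (1 / 2 : ℝ) ^ (m - 1) else 0) ≤ 2 / 7 :=
      (sum_le_sum_of_subset_of_nonneg (fun i hi => by simp at hi ⊢; omega)
        (fun _ _ _ => by split_ifs <;> positivity)).trans (sum_mult_three (n + 1))
    have := b2 (2 - 1 + (n - 2)) n
    rw [show 2 - 1 + (n - 2) = n - 1 by omega] at this
    norm_num at hrest
    linarith
  · obtain ⟨b3, b2⟩ := wtSum_general_bounds hq3
    have hq' : (3 : ℝ) ≤ q := by exact_mod_cast hq3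
    have key : ∀ m ∈ Icc 2 n, (Nat.gcd (q + 1) m : ℝ) ^ 2 * W m ≤
        (23 / 21) * ((m : ℝ) ^ 2 * (1 / 3) ^ (m - 1)) := by
      intro m hm
      rw [mem_Icc] at hm
      have hle := partNum_le (n := n) hq (show 1 ≤ m by omega) (B := 9 / 7) (by norm_num) (by norm_num)
        fun k N => b3 k (m + 1) N (by omega)
      rw [← hW] at hle
      have hy : (1 / (q : ℝ)) ^ (m - 1) ≤ (1 / 3) ^ (m - 1) := by gcongr
      have hy3 : (1 / 3 : ℝ) ^ (m - 1) ≤ 1 / 3 := by
        simpa using pow_le_pow_of_le_one (show (0 : ℝ) ≤ 1 / 3 by norm_num) (by norm_num) (show 1 ≤ m - 1 by omega)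
      have hy0 : (0 : ℝ) ≤ (1 / (q : ℝ)) ^ (m - 1) := by positivity
      have hW2 : W m ≤ 23 / 21 * (1 / 3 : ℝ) ^ (m - 1) := by nlinarith
      have hg : (Nat.gcd (q + 1) m : ℝ) ^ 2 ≤ (m : ℝ) ^ 2 := by
        gcongr
        exact Nat.gcd_le_right _ (by omega)
      refine (mul_le_mul hg hW2 (hW0 m) (by positivity)).trans (le_of_eq ?_)
      ring
    have hs := sum_le_sum key
    rw [← mul_sum] at hs
    have hpos : 0 ≤ wt q (n - 1) 2 n := wt_nonneg ..
    have := sum_sq_geom n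
    have := b2 (n - 1) n
    linarith

end CfsgLib.SUBound
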