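import Cfsg.Agent.Lib.Classical.UnitarySemisimple

/-!
# Adjoints of polynomials in a unitary matrix
-/

set_option autoImplicit false

namespace CfsgLib.SUBound

open Polynomial Matrix CfsgLib.Classical CfsgLib.Classical.SUSemisimple

universe u

variable {K : Type u} [Field K] [Fintype K] {q n : ℕ} (hK : Fintype.card K = q ^ 2) (σ : K →+* K)
  (hσ : ∀ a, σ a = a ^ q)

/-- The Hermitian form written with the dot product. -/
theorem hermForm_eq_dot (hσ : ∀ a, σ a = a ^ q) (u v : Fin n → K) :
    Cfsg.hermForm n K q u v = u ⬝ᵥ (σ ∘ v) := by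
  rw [hermForm_apply n hσ]; rfl

theorem starQ_eq (hσ : ∀ a, σ a = a ^ q) {d : ℕ} (M : Matrix (Fin d) (Fin d) K) :
    GUConj.starQ q M = (M.map σ)ᵀ := by
  ext i j; simp [GUConj.starQ, hσ]

theorem map_mulVec {a b : ℕ} (M : Matrix (Fin a) (Fin b) K) (y : Fin b → K) :
    σ ∘ (M *ᵥ y) = M.map σ *ᵥ (σ ∘ y) := funext fun i => RingHom.map_mulVec σ M y i

include hK hσ

theorem sigma_sigma (a : K) : σ (σ a) = a := by rw [hσ, hσ, pow_q_q hK]

theorem hermForm_adjoint (M : Matrix (Fin n) (Fin n) K) (x y : Fin n → K) :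
    Cfsg.hermForm n K q (M *ᵥ x) y = Cfsg.hermForm n K q x (GUConj.starQ q M *ᵥ y) := by
  rw [hermForm_eq_dot σ hσ, hermForm_eq_dot σ hσ, map_mulVec σ, starQ_eq σ hσ]
  have e : ((M.map σ)ᵀ).map σ = Mᵀ := by ext i j; simp [sigma_sigma hK σ hσ]
  rw [e, dotProduct_mulVec, vecMul_transpose]

omit hK in
theorem hermForm_smul_right (c : K) (x y : Fin n → K) :
    Cfsg.hermForm n K q x (c • y) = σ c * Cfsg.hermForm n K q x y := by
  rw [hermForm_apply n hσ, hermForm_apply n hσ, Finset.mul_sum]
  exact Finset.sum_congr rfl fun i _ => by simp only [Pi.smul_apply, smul_eq_mul, map_mul]; ring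

omit hK in
theorem hermForm_add_right (x y z : Fin n → K) :
    Cfsg.hermForm n K q x (y + z) = Cfsg.hermForm n K q x y + Cfsg.hermForm n K q x z := by
  rw [hermForm_apply n hσ, hermForm_apply n hσ, hermForm_apply n hσ, ← Finset.sum_add_distrib]
  exact Finset.sum_congr rfl fun i _ => by simp only [Pi.add_apply, map_add]; ring

omit hK in
theorem hermForm_add_left (x y z : Fin n → K) :
    Cfsg.hermForm n K q (x + y) z = Cfsg.hermForm n K q x z + Cfsg.hermForm n K q y z := by
  rw [hermForm_eq_dot σ hσ, hermForm_eq_dot σ hσ, hermForm_eq_dot σ hσ, add_dotProduct]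

omit hK in
theorem hermForm_smul_left (c : K) (x y : Fin n → K) :
    Cfsg.hermForm n K q (c • x) y = c * Cfsg.hermForm n K q x y := by
  rw [hermForm_eq_dot σ hσ, hermForm_eq_dot σ hσ, smul_dotProduct, smul_eq_mul]

theorem hermForm_symm_ne {x y : Fin n → K} (h : Cfsg.hermForm n K q x y ≠ 0) :
    Cfsg.hermForm n K q y x ≠ 0 := by
  rw [← hermForm_conj hK x y]
  exact pow_ne_zero _ h

/-- The Hermitian form has no radical. -/
theorem eq_zero_of_hermForm {y : Fin n → K} (h : ∀ x, Cfsg.hermForm n K q x y = 0) : y = 0 :=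
  funext fun i => by
    have := h (Pi.single i 1)
    rw [hermForm_eq_dot σ hσ, single_dotProduct, one_mul] at this
    exact (map_eq_zero σ).1 this

theorem starQ_aeval (G : Matrix (Fin n) (Fin n) K) (P : K[X]) :
    GUConj.starQ q (aeval G P) = aeval (GUConj.starQ q G) (P.map σ) := by
  induction P using Polynomial.induction_on' with
  | add P Q hP hQ => rw [map_add, GUConj.starQ_add hK, hP, hQ, Polynomial.map_add, map_add]
  | monomial i a =>
    rw [aeval_monomial, map_monomial, aeval_monomial, GUConj.starQ_mul hK, GUConj.starQ_scal hK,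
      starQ_pow hK, ← hσ, Algebra.commutes]

omit hK hσ in
theorem aeval_reflect {G G' : Matrix (Fin n) (Fin n) K} (h : G * G' = 1) (N : ℕ) (p : K[X])
    (hp : p.natDegree ≤ N) : aeval G (reflect N p) = G ^ N * aeval G' p := by
  revert p
  refine Polynomial.induction_with_natDegree_le _ N ?_ ?_ ?_
  · simp
  · intro m r _ hm
    rw [reflect_C_mul_X_pow, revAt_le hm]
    simp only [map_mul, map_pow, aeval_C, aeval_X]
    rw [Algebra.commutes r (G' ^ m), ← mul_assoc (G ^ N)]
    conv_rhs => rw [show G ^ N = G ^ (N - m) * G ^ m by rw [← pow_add, Nat.sub_add_cancel hm]]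
    have h1 : G ^ m * G' ^ m = 1 := by
      rw [← (show Commute G G' from h.trans (mul_eq_one_comm.1 h).symm).mul_pow, h, one_pow]
    rw [mul_assoc (G ^ (N - m)), h1, mul_one, Algebra.commutes]
  · intro a b _ _ ha hb
    rw [reflect_add, map_add, map_add, ha, hb, mul_add]

/-- The adjoint of a polynomial in a unitary matrix. -/
theorem star_aeval_eq {G : Matrix (Fin n) (Fin n) K} (hG : GUConj.starQ q G * G = 1) {P : K[X]}
    (h0 : P.coeff 0 ≠ 0) :
    GUConj.starQ q (aeval G P) =
      σ (P.coeff 0) • (GUConj.starQ q G ^ P.natDegree * aeval G (dualPoly σ P)) := by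
  have hG' : G * GUConj.starQ q G = 1 := mul_eq_one_comm.1 hG
  have h := aeval_reflect hG' P.natDegree (P.map σ) (natDegree_map_le ..)
  rw [← starQ_aeval hK σ hσ] at h
  rw [dualPoly, map_mul, aeval_C, Polynomial.reverse, natDegree_map, h, ← mul_assoc (algebraMap K _ _),
    Algebra.commutes (σ (P.coeff 0))⁻¹ (G ^ P.natDegree), ← mul_assoc, ← mul_assoc,
    ← (show Commute (GUConj.starQ q G) G from hG.trans hG'.symm).mul_pow, hG, one_pow, one_mul,
    ← Algebra.smul_def, smul_smul, mul_inv_cancel₀ ((map_ne_zero σ).2 h0), one_smul]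

theorem dualPoly_irreducible {P : K[X]} (hP : P.Monic) (hirr : Irreducible P) (h0 : P.coeff 0 ≠ 0) :
    Irreducible (dualPoly σ P) := by
  refine ⟨fun hu => ?_, fun a b hab => ?_⟩
  · have := natDegree_eq_zero_of_isUnit hu
    rw [natDegree_dualPoly σ h0] at this
    exact hirr.natDegree_pos.ne' this
  · have e : P = dualPoly σ a * dualPoly σ b := by
      rw [← dualPoly_mul, ← hab, dualPoly_dualPoly σ (sigma_sigma hK σ hσ) hP h0]
    have h00 : (dualPoly σ P).coeff 0 ≠ 0 := by
      rw [coeff_dualPoly σ (Nat.zero_le _), Nat.sub_zero, hP.coeff_natDegree, map_one, mul_one]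
      exact inv_ne_zero ((map_ne_zero σ).2 h0)
    rw [hab, mul_coeff_zero] at h00
    have hunit : ∀ c : K[X], c.coeff 0 ≠ 0 → IsUnit (dualPoly σ c) → IsUnit c := fun c hc hu => by
      refine isUnit_iff_degree_eq_zero.2 ?_
      have := natDegree_eq_zero_of_isUnit hu
      rw [natDegree_dualPoly σ hc] at this
      rw [degree_eq_natDegree (fun h => hc (by rw [h, coeff_zero])), this, Nat.cast_zero]
    rcases hirr.isUnit_or_isUnit e with h | h
    · exact Or.inl (hunit a (left_ne_zero_of_mul h00) h)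
    · exact Or.inr (hunit b (right_ne_zero_of_mul h00) h)

end CfsgLib.SUBound
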