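import Cfsg.Agent.Lib.KnownSimple.SUClassBound.Counting
import Cfsg.Agent.Lib.KnownSimple.SUClassBound.Dual
import Cfsg.Agent.Lib.Classical.UnitarySemisimpleClasses
import Cfsg.Agent.Lib.KnownSimple.SLClassBound.Tuples

/-!
# Tuples of self-dual polynomials
-/

set_option autoImplicit false

namespace CfsgLib.SUBound

open Polynomial CfsgLib.Classical CfsgLib.Classical.SUSemisimple CfsgLib.GLClassBound CfsgLib.SLBound

universe u

variable {K : Type u} [Field K] [Fintype K] {q n : ℕ} (hK : Fintype.card K = q ^ 2) (σ : K →+* K)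
  (hσ : ∀ a, σ a = a ^ q)

/-- A self-dual monic polynomial. -/
def IsSD (σ : K →+* K) (P : K[X]) : Prop := P.Monic ∧ P.coeff 0 ≠ 0 ∧ dualPoly σ P = P

/-- Tuples of self-dual polynomials of weight `r` without parts smaller than `m`. -/
def Rest (σ : K →+* K) (n m r : ℕ) : Type u :=
  {h : Fin n → K[X] // (∀ j, IsSD σ (h j)) ∧ (∀ j : Fin n, (j : ℕ) + 1 < m → (h j).natDegree = 0) ∧
    ∑ j : Fin n, ((j : ℕ) + 1) * (h j).natDegree = r}

theorem finite_rest (σ : K →+* K) (n m r : ℕ) : Finite (Rest σ n m r) := by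
  refine Finite.of_injective (fun (T : Rest σ n m r) (j : Fin n) (i : Fin (r + 1)) => (T.1 j).coeff (i : ℕ)) fun T T' h => ?_
  refine Subtype.ext (_root_.funext fun j => Polynomial.ext fun i => ?_)
  rcases Nat.lt_or_ge i (r + 1) with hi | hi
  · exact congrFun (congrFun h j) ⟨i, hi⟩
  · have hle : ∀ T : Rest σ n m r, (T.1 j).natDegree ≤ r := fun T =>
      (Nat.le_mul_of_pos_left _ (Nat.succ_pos _)).trans ((Finset.single_le_sum
        (f := fun j : Fin n => ((j : ℕ) + 1) * (T.1 j).natDegree) (fun _ _ => Nat.zero_le _) (Finset.mem_univ j)).trans T.2.2.2.le)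
    have := hle T
    have := hle T'
    rw [coeff_eq_zero_of_natDegree_lt (by omega), coeff_eq_zero_of_natDegree_lt (by omega)]

theorem isSD_one : IsSD σ (1 : K[X]) := by
  refine ⟨monic_one, by simp, ?_⟩
  rw [dualPoly, Polynomial.map_one, coeff_one_zero, map_one, inv_one, map_one, one_mul, ← C_1, reverse_C]

include hK hσ

theorem isSD_coeff_zero {P : K[X]} (hP : IsSD σ P) : P.coeff 0 ^ (q + 1) = 1 := by
  have h := congrArg (fun t : K[X] => t.coeff 0) hP.2.2
  rw [coeff_dualPoly σ (Nat.zero_le _), Nat.sub_zero, hP.1.coeff_natDegree, map_one, mul_one] at h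
  rw [pow_succ', ← hσ]
  conv_lhs => arg 1; rw [← h]
  exact inv_mul_cancel₀ ((map_ne_zero σ).2 hP.2.1)

theorem isSD_coeff {P : K[X]} (hP : IsSD σ P) {j : ℕ} (hj : j ≤ P.natDegree) :
    P.coeff j = P.coeff 0 * σ (P.coeff (P.natDegree - j)) := by
  have h0 : (σ (P.coeff 0))⁻¹ = P.coeff 0 := by
    have h := congrArg (fun t : K[X] => t.coeff 0) hP.2.2
    rwa [coeff_dualPoly σ (Nat.zero_le _), Nat.sub_zero, hP.1.coeff_natDegree, map_one, mul_one] at h
  conv_lhs => rw [← hP.2.2]
  rw [coeff_dualPoly σ hj, h0]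

theorem card_split (m r d : ℕ) (hm : 1 ≤ m) (hmn : m ≤ n) (hd : 1 ≤ d) (S : (Fin n → K[X]) → K → Prop) (M : ℕ)
    (hM : ∀ R : Rest σ n (m + 1) (r - m * d), Nat.card {a : K // a ^ (q + 1) = 1 ∧ S R.1 a} ≤ M) :
    Nat.card {T : Rest σ n m r // (T.1 ⟨m - 1, by omega⟩).natDegree = d ∧
        S (Function.update T.1 ⟨m - 1, by omega⟩ 1) ((T.1 ⟨m - 1, by omega⟩).coeff 0)} ≤
      M * q ^ (d - 1) * Nat.card (Rest σ n (m + 1) (r - m * d)) := by
  classical
  haveI := finite_rest σ n (m + 1) (r - m * d)
  letI := Fintype.ofFinite (Rest σ n (m + 1) (r - m * d))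
  set j₀ : Fin n := ⟨m - 1, by omega⟩ with hj₀
  let X' := {T : Rest σ n m r // (T.1 j₀).natDegree = d ∧ S (Function.update T.1 j₀ 1) ((T.1 j₀).coeff 0)}
  let rest : X' → Rest σ n (m + 1) (r - m * d) := fun T => ⟨Function.update T.1.1 j₀ 1, fun j => by
      rcases eq_or_ne j j₀ with rfl | hj
      · rw [Function.update_self]; exact isSD_one σ
      · rw [Function.update_of_ne hj]; exact T.1.2.1 j,
    fun j hj => by
      rcases eq_or_ne j j₀ with rfl | hne
      · rw [Function.update_self, natDegree_one]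
      · rw [Function.update_of_ne hne]
        refine T.1.2.2.1 j ?_
        have : (j : ℕ) ≠ m - 1 := fun e => hne (Fin.ext e)
        omega,
    by
      have h := T.1.2.2.2
      rw [← Finset.add_sum_erase _ _ (Finset.mem_univ j₀)] at h ⊢
      rw [Function.update_self, natDegree_one, mul_zero, zero_add, Finset.sum_congr rfl (fun i hi => by
        rw [Function.update_of_ne (Finset.ne_of_mem_erase hi)])]
      rw [T.2.1, show ((j₀ : ℕ) + 1) = m by simp only [hj₀]; omega] at h
      omega⟩
  let A : Rest σ n (m + 1) (r - m * d) → Type u := fun R => {a : K // a ^ (q + 1) = 1 ∧ S R.1 a}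
  let V : K → Type u := fun a => {v : Fin (d - 1) → K // ∀ i, v i = a * σ (v i.rev)}
  let f : X' → Σ R : Rest σ n (m + 1) (r - m * d), Σ a : A R, V a.1 := fun T =>
    ⟨rest T, ⟨(T.1.1 j₀).coeff 0, isSD_coeff_zero hK σ hσ (T.1.2.1 j₀), T.2.2⟩,
      fun i => (T.1.1 j₀).coeff ((i : ℕ) + 1), fun i => by
        show (T.1.1 j₀).coeff _ = (T.1.1 j₀).coeff 0 * σ ((T.1.1 j₀).coeff _)
        rw [isSD_coeff hK σ hσ (T.1.2.1 j₀) (by rw [T.2.1]; omega), T.2.1]
        congr 3
        simp only [Fin.val_rev]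
        omega⟩
  have hf : Function.Injective f := fun T T' h => by
    have h1 : ((f T).1.1, (f T).2.1.1, (f T).2.2.1) = ((f T').1.1, (f T').2.1.1, (f T').2.2.1) :=
      congrArg (fun x : Σ R : Rest σ n (m + 1) (r - m * d), Σ a : A R, V a.1 => (x.1.1, x.2.1.1, x.2.2.1)) h
    obtain ⟨e1, e2, e3⟩ := by simpa only [Prod.mk.injEq] using h1
    refine Subtype.ext (Subtype.ext (_root_.funext fun j => ?_))
    rcases eq_or_ne j j₀ with rfl | hj
    · refine Polynomial.ext fun l => ?_
      rcases Nat.eq_zero_or_pos l with rfl | hl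
      · exact e2
      rcases lt_trichotomy l d with hlt | rfl | hgt
      · have := congrFun e3 ⟨l - 1, by omega⟩
        simp only [f] at this
        rwa [show l - 1 + 1 = l by omega] at this
      · have e := (T.1.2.1 j₀).1.coeff_natDegree
        have e' := (T'.1.2.1 j₀).1.coeff_natDegree
        rw [T.2.1] at e
        rw [T'.2.1] at e'
        rw [e, e']
      · rw [coeff_eq_zero_of_natDegree_lt (by rw [T.2.1]; omega), coeff_eq_zero_of_natDegree_lt (by rw [T'.2.1]; omega)]
    · have := congrFun e1 j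
      simpa only [f, rest, Function.update_of_ne hj] using this
  refine (Nat.card_le_card_of_injective f hf).trans ?_
  rw [Nat.card_sigma]
  refine (Finset.sum_le_card_nsmul _ _ (M * q ^ (d - 1)) fun R _ => ?_).trans (le_of_eq ?_)
  · letI : Fintype (A R) := Fintype.ofFinite _
    rw [Nat.card_sigma, Finset.sum_congr rfl (fun a _ => card_twisted_palindrome hK hσ (c := a.1) (by
      rw [hσ, ← pow_succ']; exact a.2.1) (d - 1)), Finset.sum_const, smul_eq_mul, Finset.card_univ,
      ← Nat.card_eq_fintype_card]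
    exact Nat.mul_le_mul_right _ (hM R)
  · rw [smul_eq_mul, Finset.card_univ, ← Nat.card_eq_fintype_card, mul_comm]

theorem card_rest_le_tupNum : ∀ k m r, 1 ≤ m → m + k = n + 1 → Nat.card (Rest σ n m r) ≤ tupNum q k m r := by
  classical
  intro k
  induction k with
  | zero =>
    intro m r _ h
    have h0 : ∀ (T : Rest σ n m r) j, (T.1 j).natDegree = 0 := fun T j => T.2.2.1 j (by omega)
    show _ ≤ if r = 0 then 1 else 0
    split_ifs with hr
    · haveI := finite_rest σ n m r
      exact Finite.card_le_one_iff_subsingleton.2 ⟨fun T T' => Subtype.ext (_root_.funext fun j =>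
        ((T.2.1 j).1.natDegree_eq_zero.1 (h0 T j)).trans ((T'.2.1 j).1.natDegree_eq_zero.1 (h0 T' j)).symm)⟩
    · haveI : IsEmpty (Rest σ n m r) := ⟨fun T => hr (by have := T.2.2.2; simp only [h0, mul_zero, Finset.sum_const_zero] at this; exact this.symm)⟩
      simp
  | succ k ih =>
    intro m r hm h
    haveI := finite_rest σ n m r
    haveI := finite_rest σ n (m + 1) r
    letI := Fintype.ofFinite (Rest σ n m r)
    set j₀ : Fin n := ⟨m - 1, by omega⟩ with hj₀
    have hdeg : ∀ T : Rest σ n m r, (T.1 j₀).natDegree ≤ r / m := fun T => by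
      refine (Nat.le_div_iff_mul_le (by omega)).2 ?_
      have h2 := (Finset.single_le_sum (f := fun i : Fin n => ((i : ℕ) + 1) * (T.1 i).natDegree)
        (fun _ _ => Nat.zero_le _) (Finset.mem_univ j₀)).trans T.2.2.2.le
      rw [show ((j₀ : ℕ) + 1) = m by simp only [hj₀]; omega, mul_comm] at h2
      exact h2
    have hcount : Nat.card (Rest σ n m r) =
        ∑ d ∈ Finset.range (r / m + 1), Nat.card {T : Rest σ n m r // (T.1 j₀).natDegree = d} := by
      simp only [Nat.card_eq_fintype_card, Fintype.card_subtype]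
      rw [← Finset.card_univ, Finset.card_eq_sum_card_fiberwise (f := fun T : Rest σ n m r => (T.1 j₀).natDegree)
        (t := Finset.range (r / m + 1)) (fun T _ => Finset.mem_coe.2 (Finset.mem_range.2 (Nat.lt_succ_of_le (hdeg T))))]
    rw [hcount, Finset.sum_range_succ', tupNum, Finset.mul_sum,
      add_comm (tupNum q k (m + 1) r)]
    refine add_le_add ?_ ?_
    · refine le_of_le_of_eq (Finset.sum_le_sum (g := fun d => (q + 1) * (q ^ d * tupNum q k (m + 1) (r - m * (d + 1))))
        fun d _ => ?_) ?_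
      · refine le_trans (le_of_eq (Nat.card_congr (Equiv.subtypeEquivRight fun T => (and_true _).symm.to_iff)))
          ((card_split hK σ hσ m r (d + 1) hm (by omega) (by omega) (fun _ _ => True) (q + 1) fun R => ?_).trans ?_)
        · refine le_of_eq ?_
          conv_rhs => rw [← card_norm_one hK]
          exact Nat.card_congr (Equiv.subtypeEquivRight fun a => (and_true _).to_iff)
        · rw [Nat.add_sub_cancel, mul_assoc]
          exact Nat.mul_le_mul_left _ (Nat.mul_le_mul_left _ (ih (m + 1) _ (by omega) (by omega)))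
      · refine Finset.sum_bij' (fun d _ => d + 1) (fun d _ => d - 1) ?_ ?_ ?_ ?_ ?_
        all_goals simp only [Finset.mem_Icc, Finset.mem_range, Nat.add_sub_cancel]
        all_goals intros
        all_goals first | omega | rfl | trivial
    · haveI : Finite {h : Fin n → K[X] // (∀ j, IsSD σ (h j)) ∧ (∀ j : Fin n, (j : ℕ) + 1 < m + 1 → (h j).natDegree = 0) ∧
          ∑ j : Fin n, ((j : ℕ) + 1) * (h j).natDegree = r} := finite_rest σ n (m + 1) r
      refine (Nat.card_le_card_of_injective (fun T : {T : Rest σ n m r // (T.1 j₀).natDegree = 0} =>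
        (⟨T.1.1, T.1.2.1, fun j hj => by
          rcases eq_or_ne j j₀ with rfl | hne
          · exact T.2
          · refine T.1.2.2.1 j ?_
            have : (j : ℕ) ≠ m - 1 := fun e => hne (Fin.ext e)
            omega, T.1.2.2.2⟩ : Rest σ n (m + 1) r)) ?_).trans (ih (m + 1) r (by omega) (by omega))
      intro T T' e
      exact Subtype.ext (Subtype.ext (congrArg (fun x : Rest σ n (m + 1) r => x.1) e))

end CfsgLib.SUBound
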